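/-
The twenty-seven singular points of the orthogonal six-space of minus type, one for each totally isotropic line
of the hermitian four-space.
-/
import Mathlib.Init

set_option autoImplicit false

namespace CfsgLib.SixTwoType

/-- The point of each line. -/
def lvL : List Nat :=
  [5, 10, 15, 11, 14, 17, 20, 33, 36, 49, 52, 60, 50, 51, 56, 34, 44, 35, 40, 7, 9, 13, 6, 18, 28, 19,
    24]

/-- Lines whose points sum to each basis vector. -/
def decL : List (List Nat) :=
  [[1, 3], [0, 3, 5, 7, 11], [0, 1, 3], [0, 1, 3, 5, 7, 11], [1, 3, 5], [1, 3, 7]]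

end CfsgLib.SixTwoType
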