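/-
The action of the unitary group with the field automorphism on the orthogonal six-space, through its lines.
-/
import Cfsg.Agent.Lib.U42Act.GU
import Cfsg.Agent.Lib.U42Act.SixTwo
import Cfsg.Agent.Lib.Fi22Cent.Codes
import Cfsg.Agent.Lib.SixTwoType.Data

set_option autoImplicit false
set_option maxRecDepth 100000
set_option linter.unusedVariables false

namespace CfsgLib.SixTwoType

open U6Rec
open CfsgLib.Fi22Cent (InX sigC)

/-- The point of a line. -/
def lv (l : ℕ) : ℕ := lvL.getD l 0

/-- Two points spanning a line. -/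
def pA (l : ℕ) : ℕ := app (lineEl l) 1

/-- The second of two points spanning a line. -/
def pB (l : ℕ) : ℕ := app (lineEl l) 4

/-- Membership in a line. -/
def mem (m v : ℕ) : Bool := Nat.beq (herm v (pA m)) 0 && Nat.beq (herm v (pB m)) 0

/-- The line containing two images. -/
def imgIdx (g l : ℕ) : ℕ := (List.range 27).findIdx fun m => mem m (app g (pA l)) && mem m (app g (pB l))

/-- The action on the six-space. -/
def psi (g : ℕ) : ℕ :=
  pack fun i => bif Nat.blt i 6 then ((decL.getD i []).foldl (fun a l => a ^^^ lv (imgIdx g l)) 0) % 64 else 1 <<< i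

/-- A permutation of lines respecting membership. -/
def Lines (g : ℕ) : Prop := ∀ l < 27, ∃ m < 27, ∀ v < 256, mem m (app g v) = mem l v

/-- The six-space action agrees with the lines. -/
def Good (g : ℕ) : Prop := ∀ l < 27, app (psi g) (lv l) = lv (imgIdx g l)

theorem line_tables : ((List.range 27).all fun m => mem m (pA m) && mem m (pB m) &&
    (List.range 256).all fun v => !mem m v || (Nat.beq (herm (pA m) v) 0 && Nat.beq (herm (pB m) v) 0)) = true ∧
    ((List.range 27).all fun m => (List.range 27).all fun m' => Nat.beq m m' ||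
      (List.range 256).any fun w => mem m' w && !mem m w) = true ∧
    ((List.range 27).all fun l => Nat.blt (lv l) 64) = true := by decide +kernel

theorem line_iso : ((List.range 27).all fun m => (List.range 256).all fun v => !mem m v ||
    (List.range 256).all fun w => !mem m w || Nat.beq (herm v w) 0) = true := by decide +kernel

theorem sigC_herm : ∀ u < 256, ∀ v < 256, herm (app sigC u) (app sigC v) = cj (herm u v) := by decide +kernel

theorem cj_zero : ∀ a < 4, cj a = 0 ↔ a = 0 := by decide +kernel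

theorem inX_cases {g : ℕ} (h : InX g) : InU g ∨ ∃ u, InU u ∧ g = comp u sigC := h

theorem inX_perp {g : ℕ} (h : InX g) {u v : ℕ} (hu : u < 256) (hv : v < 256) :
    herm (app g u) (app g v) = 0 ↔ herm u v = 0 := by
  rcases inX_cases h with h | ⟨w, hw, rfl⟩
  · rw [h.unit.herm_app u v hu hv]
  · rw [app_comp, app_comp, hw.unit.herm_app _ _ (app_lt _ _) (app_lt _ _), sigC_herm u hu v hv, cj_zero _ (herm_lt _ _)]

theorem inX_surj {g : ℕ} (h : InX g) {w : ℕ} (hw : w < 256) : ∃ v < 256, app g v = w := by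
  rcases inX_cases h with h | ⟨u, hu, rfl⟩
  · exact h.unit.surj hw
  · obtain ⟨v, hv, e⟩ := hu.unit.surj hw
    exact ⟨app sigC v, app_lt _ _, by rw [app_comp, Fi22Cent.sigC_facts.2.2.2 v hv, e]⟩

/-- The line found is the image. -/
theorem img_eq {g : ℕ} (hg : InX g) {l m : ℕ} (hl : l < 27) (hm : m < 27)
    (h : ∀ v < 256, mem m (app g v) = mem l v) : imgIdx g l = m := by
  have tA := List.all_eq_true.mp line_tables.1 l (List.mem_range.mpr hl)
  rw [Bool.and_eq_true, Bool.and_eq_true] at tA
  have ha : mem m (app g (pA l)) = true := (h _ (app_lt _ _)).trans tA.1.1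
  have hb : mem m (app g (pB l)) = true := (h _ (app_lt _ _)).trans tA.1.2
  have hlt : imgIdx g l < 27 := by
    have : imgIdx g l < (List.range 27).length :=
      List.findIdx_lt_length_of_exists ⟨m, List.mem_range.mpr hm, by rw [Bool.and_eq_true]; exact ⟨ha, hb⟩⟩
    simpa using this
  have found : mem (imgIdx g l) (app g (pA l)) = true ∧ mem (imgIdx g l) (app g (pB l)) = true := by
    have := List.findIdx_getElem (w := show imgIdx g l < (List.range 27).length by simpa using hlt)
    have e : ∀ (n : ℕ) (hn : n < (List.range 27).length), (List.range 27)[n] = n := fun n hn => List.getElem_range hn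
    erw [e] at this
    exact (Bool.and_eq_true _ _).mp this
  by_contra hne
  obtain ⟨w, hw, hw'⟩ := List.any_eq_true.mp ((Bool.or_eq_true _ _ ▸
    List.all_eq_true.mp (List.all_eq_true.mp line_tables.2.1 m (List.mem_range.mpr hm)) _
      (List.mem_range.mpr hlt)).resolve_left fun e => hne (Nat.eq_of_beq_eq_true e).symm)
  rw [Bool.and_eq_true, Bool.not_eq_true'] at hw'
  obtain ⟨v, hv, rfl⟩ := inX_surj hg (List.mem_range.mp hw)
  have iso : ∀ {p : ℕ}, p < 256 → mem (imgIdx g l) (app g p) = true → herm v p = 0 := fun {p} hp hmp => by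
    have t := List.all_eq_true.mp (List.all_eq_true.mp line_iso _ (List.mem_range.mpr hlt)) _ (List.mem_range.mpr (app_lt g v))
    rw [hw'.1, Bool.not_true, Bool.false_or, List.all_eq_true] at t
    have t' := t _ (List.mem_range.mpr (app_lt g p))
    rw [hmp, Bool.not_true, Bool.false_or, Nat.beq_eq] at t'
    exact (inX_perp hg hv hp).mp t'
  have hv' : mem l v = true := by
    rw [mem, iso (p := pA l) (app_lt _ _) found.1, iso (p := pB l) (app_lt _ _) found.2]; rfl
  rw [← h v hv, hw'.2] at hv'
  exact Bool.false_ne_true hv'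

theorem img_lt {g : ℕ} (hg : InX g) (hL : Lines g) {l : ℕ} (hl : l < 27) : imgIdx g l < 27 := by
  obtain ⟨m, hm, h⟩ := hL l hl
  rw [img_eq hg hl hm h]; exact hm

theorem lines_comp {g h : ℕ} (hg : Lines g) (hh : Lines h) : Lines (comp g h) := fun l hl => by
  obtain ⟨m, hm, e⟩ := hh l hl
  obtain ⟨m', hm', e'⟩ := hg m hm
  exact ⟨m', hm', fun v hv => by rw [app_comp, e' _ (app_lt _ _), e v hv]⟩

theorem gen_lines : (((List.range 5).map gen ++ [sigC, one]).all fun g => (List.range 27).all fun l =>
    let m := imgIdx g l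
    Nat.blt m 27 && Nat.beq (app (psi g) (lv l)) (lv m) &&
      (List.range 256).all fun v => mem m (app g v) == mem l v) = true := by decide +kernel

theorem gen_spec {g : ℕ} (h : g ∈ (List.range 5).map gen ++ [sigC, one]) : Lines g ∧ Good g := by
  have key := fun l (hl : l < 27) => List.all_eq_true.mp (List.all_eq_true.mp gen_lines g h) l (List.mem_range.mpr hl)
  refine ⟨fun l hl => ⟨imgIdx g l, ?_, fun v hv => ?_⟩, fun l hl => ?_⟩
  · have := key l hl
    rw [Bool.and_eq_true, Bool.and_eq_true] at this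
    exact Nat.blt_eq.mp this.1.1
  · have := key l hl
    rw [Bool.and_eq_true, Bool.and_eq_true] at this
    exact beq_iff_eq.mp (List.all_eq_true.mp this.2 v (List.mem_range.mpr hv))
  · have := key l hl
    rw [Bool.and_eq_true, Bool.and_eq_true, Nat.beq_eq] at this
    exact this.1.2

theorem fold_xor (f : ℕ → ℕ) : ∀ (L : List ℕ) (a : ℕ), L.foldl (fun a l => a ^^^ f l) a = a ^^^ L.foldl (fun a l => a ^^^ f l) 0
  | [], a => by simp
  | x :: L, a => by rw [List.foldl_cons, fold_xor f L, List.foldl_cons, fold_xor f L (0 ^^^ f x), Nat.zero_xor, Nat.xor_assoc]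

theorem fold_map {g : ℕ → ℕ} (hg : ∀ a b, g (a ^^^ b) = g a ^^^ g b) (f : ℕ → ℕ) : ∀ L : List ℕ,
    g (L.foldl (fun a l => a ^^^ f l) 0) = L.foldl (fun a l => a ^^^ g (f l)) 0
  | [] => by
    have := hg 0 0
    simpa using this
  | x :: L => by
    rw [List.foldl_cons, fold_xor, List.foldl_cons, fold_xor (fun l => g (f l)), hg, fold_map hg f L, Nat.zero_xor,
      Nat.zero_xor]

theorem fold_lt {f : ℕ → ℕ} : ∀ L : List ℕ, (∀ l ∈ L, f l < 64) → L.foldl (fun a l => a ^^^ f l) 0 < 64
  | [], _ => by simp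
  | x :: L, h => by
    rw [List.foldl_cons, fold_xor, Nat.zero_xor]
    exact Nat.xor_lt_two_pow (n := 6) (h x List.mem_cons_self) (fold_lt L fun l hl => h l (List.mem_cons_of_mem _ hl))

theorem fold_congr {f f' : ℕ → ℕ} : ∀ L : List ℕ, (∀ l ∈ L, f l = f' l) → ∀ a,
    L.foldl (fun a l => a ^^^ f l) a = L.foldl (fun a l => a ^^^ f' l) a
  | [], _, _ => rfl
  | x :: L, h, a => by
    rw [List.foldl_cons, List.foldl_cons, h x List.mem_cons_self]
    exact fold_congr L (fun l hl => h l (List.mem_cons_of_mem _ hl)) _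

theorem dec_lt : ∀ i < 6, ∀ l ∈ decL.getD i [], l < 27 := by decide +kernel

theorem psi_basis (g : ℕ) {i : ℕ} (hi : i < 8) : app (psi g) (1 <<< i) =
    bif Nat.blt i 6 then ((decL.getD i []).foldl (fun a l => a ^^^ lv (imgIdx g l)) 0) % 64 else 1 <<< i := by
  rw [app_basis _ i hi, psi]
  let F : ℕ → ℕ := fun i => bif Nat.blt i 6 then ((decL.getD i []).foldl (fun a l => a ^^^ lv (imgIdx g l)) 0) % 64
    else (if i < 8 then 1 <<< i else 0)
  have e : pack (fun i => bif Nat.blt i 6 then ((decL.getD i []).foldl (fun a l => a ^^^ lv (imgIdx g l)) 0) % 64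
      else 1 <<< i) = pack F := by simp [pack, F]
  have hF : ∀ k, F k < 256 := fun k => by
    simp only [F]
    cases Nat.blt k 6
    · simp only [cond_false]
      split
      · exact byte_one_lt k ‹_›
      · norm_num
    · simp only [cond_true]; omega
  rw [e, byte_pack hF hi]
  simp [F, hi]

theorem psi_dec {g : ℕ} (hg : InX g) (hL : Lines g) {i : ℕ} (hi : i < 6) :
    app (psi g) (1 <<< i) = (decL.getD i []).foldl (fun a l => a ^^^ lv (imgIdx g l)) 0 := by
  rw [psi_basis g (by omega), show Nat.blt i 6 = true from Nat.blt_eq.mpr hi, cond_true, Nat.mod_eq_of_lt]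
  exact fold_lt _ fun l hl => Nat.blt_eq.mp (List.all_eq_true.mp line_tables.2.2 _ (List.mem_range.mpr (img_lt hg hL (dec_lt i hi l hl))))

theorem psi_comp {g h : ℕ} (hg : InX g) (hh : InX h) (hgh : InX (comp g h)) (Lg : Lines g) (Gg : Good g) (Lh : Lines h) :
    psi (comp g h) = comp (psi g) (psi h) ∧ ∀ l < 27, imgIdx (comp g h) l = imgIdx g (imgIdx h l) := by
  have himg : ∀ l < 27, imgIdx (comp g h) l = imgIdx g (imgIdx h l) := by
    intro l hl
    obtain ⟨m, hm, e⟩ := Lh l hl
    obtain ⟨m', hm', e'⟩ := Lg m hm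
    rw [img_eq hh hl hm e, img_eq hg hm hm' e']
    exact img_eq hgh hl hm' fun v hv => by rw [app_comp, e' _ (app_lt _ _), e v hv]
  refine ⟨?_, himg⟩
  rw [← psi_form (comp g h)]
  refine comp_ext fun v hv => ?_
  rw [app_comp, app_one v hv, app_comp]
  refine lin_ext (f := app (psi (comp g h))) (f' := fun v => app (psi g) (app (psi h) v)) (app_add _)
    (fun a b => by simp only [app_add]) (fun i hi => ?_) v hv
  by_cases h6 : i < 6
  · rw [psi_dec hgh (lines_comp Lg Lh) h6, psi_dec hh Lh h6, fold_map (app_add (psi g))]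
    exact fold_congr _ (fun l hl => by
      have hl' := dec_lt i h6 l hl
      rw [himg l hl', Gg _ (img_lt hh Lh hl')]) 0
  · have hb := Bool.eq_false_iff.mpr fun t => h6 (Nat.blt_eq.mp t)
    simp only [psi_basis _ hi, hb, cond_false]
where
  psi_form : ∀ g, comp (psi g) one = psi g := fun g => by
    have hb : ∀ i < 8, (one >>> (8 * i)) &&& 255 = 1 <<< i := by decide
    simp only [comp, pack]
    rw [hb 0 (by omega), hb 1 (by omega), hb 2 (by omega), hb 3 (by omega), hb 4 (by omega), hb 5 (by omega),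
      hb 6 (by omega), hb 7 (by omega), psi_basis g (show 0 < 8 by omega), psi_basis g (show 1 < 8 by omega),
      psi_basis g (show 2 < 8 by omega), psi_basis g (show 3 < 8 by omega), psi_basis g (show 4 < 8 by omega),
      psi_basis g (show 5 < 8 by omega), psi_basis g (show 6 < 8 by omega), psi_basis g (show 7 < 8 by omega)]
    rfl

theorem sigC_conj : ((List.range 5).all fun k => U42Act.memOK (comp sigC (comp (gen k) sigC))) = true := by
  decide +kernel

theorem memOK_inU {g : ℕ} (h : U42Act.memOK g = true) : InU g := by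
  obtain ⟨m, hm, e⟩ := List.any_eq_true.mp h
  cases e' : Nat.beq (app (rep m) 1) (app g 1) with
  | false => simp [e'] at e
  | true =>
    rw [e', cond_true, List.any_eq_true] at e
    obtain ⟨j, hj, e2⟩ := e
    rw [Nat.eq_of_beq_eq_true e2]
    exact inU_elt (p := (m, j)) (List.mem_range.mp hm) (List.mem_range.mp hj)

theorem sigC_one : comp sigC one = sigC ∧ comp sigC sigC = one := by decide +kernel

/-- The inner part is normalised by the field automorphism. -/
theorem sigC_norm {u : ℕ} (hu : InU u) : InU (comp sigC (comp u sigC)) := by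
  obtain ⟨w, hw, rfl⟩ := U42Act.elt_word hu
  clear hu
  induction w with
  | nil =>
    show InU (comp sigC (comp one sigC))
    rw [show comp one sigC = sigC by decide +kernel, sigC_one.2]; exact inU_one
  | cons k w ih =>
    have hk := hw k List.mem_cons_self
    have h1 := U42Act.inU_comp (memOK_inU (List.all_eq_true.mp sigC_conj k (List.mem_range.mpr hk)))
      (ih fun m hm => hw m (List.mem_cons_of_mem _ hm))
    have e : comp (comp sigC (comp (gen k) sigC)) (comp sigC (comp (evalW w) sigC)) =
        comp sigC (comp (evalW (k :: w)) sigC) := comp_ext fun v hv => by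
      simp only [app_comp, Fi22Cent.sigC_facts.2.2.2 _ (app_lt _ _), evalW]
    rwa [← e]

theorem inX_comp {g h : ℕ} (hg : InX g) (hh : InX h) : InX (comp g h) := by
  rcases inX_cases hg with hg | ⟨u, hu, rfl⟩ <;> rcases inX_cases hh with hh | ⟨w, hw, rfl⟩
  · exact Or.inl (U42Act.inU_comp hg hh)
  · exact Or.inr ⟨_, U42Act.inU_comp hg hw, (comp_assoc _ _ _).symm⟩
  · refine Or.inr ⟨_, U42Act.inU_comp hu (sigC_norm hh), ?_⟩
    rw [comp_assoc u, comp_assoc u, comp_assoc sigC, comp_assoc h, sigC_one.2, hh.form]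
  · refine Or.inl ?_
    rw [comp_assoc u]
    exact U42Act.inU_comp hu (sigC_norm hw)

theorem inX_gen : InX sigC ∧ InX one ∧ ∀ k < 5, InX (gen k) := by
  refine ⟨Or.inr ⟨one, inU_one, by decide +kernel⟩, Or.inl inU_one, fun k hk => Or.inl ?_⟩
  have := U42Act.gen_left hk inU_one
  rwa [show comp (gen k) one = gen k from (show ∀ k < 5, comp (gen k) one = gen k by decide +kernel) k hk] at this

theorem word_spec : ∀ w : List ℕ, (∀ k ∈ w, k < 5) → InX (evalW w) ∧ Lines (evalW w) ∧ Good (evalW w)
  | [], _ => ⟨inX_gen.2.1, gen_spec (List.mem_append.mpr (Or.inr (by simp [evalW])))⟩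
  | k :: w, h => by
    obtain ⟨hx, hl, hG⟩ := word_spec w fun m hm => h m (List.mem_cons_of_mem _ hm)
    have hk := h k List.mem_cons_self
    obtain ⟨gl, gg⟩ := gen_spec (g := gen k) (List.mem_append.mpr (Or.inl (List.mem_map.mpr ⟨k, List.mem_range.mpr hk, rfl⟩)))
    have hgx := inX_gen.2.2 k hk
    have hc := inX_comp hgx hx
    obtain ⟨e, ei⟩ := psi_comp hgx hx hc gl gg hl
    refine ⟨hc, lines_comp gl hl, fun l hl' => ?_⟩
    show app (psi (comp (gen k) (evalW w))) (lv l) = lv (imgIdx (comp (gen k) (evalW w)) l)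
    rw [e, app_comp, hG l hl', gg _ (img_lt hx hl hl'), ei l hl']

theorem inX_spec {g : ℕ} (h : InX g) : Lines g ∧ Good g := by
  rcases inX_cases h with hu | ⟨u, hu, rfl⟩
  · obtain ⟨w, hw, rfl⟩ := U42Act.elt_word hu
    exact (word_spec w hw).2
  · obtain ⟨w, hw, rfl⟩ := U42Act.elt_word hu
    obtain ⟨hx, hl, hG⟩ := word_spec w hw
    obtain ⟨sl, sg⟩ := gen_spec (g := sigC) (List.mem_append.mpr (Or.inr (by simp)))
    obtain ⟨e, ei⟩ := psi_comp hx inX_gen.1 h hl hG sl
    exact ⟨lines_comp hl sl, fun l hl' => by rw [e, app_comp, sg l hl', hG _ (img_lt inX_gen.1 sl hl'), ei l hl']⟩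

/-- The action is multiplicative. -/
theorem psi_mul {g h : ℕ} (hg : InX g) (hh : InX h) : psi (comp g h) = comp (psi g) (psi h) :=
  (psi_comp hg hh (inX_comp hg hh) (inX_spec hg).1 (inX_spec hg).2 (inX_spec hh).1).1

end CfsgLib.SixTwoType
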