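/-
The unitary group with the field automorphism as a group of codes, and the six-space action as isometries.
-/
import Cfsg.Agent.Lib.SixTwoType.Psi
import Mathlib.GroupTheory.Index

set_option autoImplicit false
set_option maxRecDepth 100000
set_option linter.unusedVariables false

namespace CfsgLib.SixTwoType

open U6Rec
open CfsgLib.U42Act (qW)
open CfsgLib.Fi22Cent (InX sigC)

theorem inX_form {g : ℕ} (h : InX g) : comp g one = g := by
  rcases inX_cases h with h | ⟨u, hu, rfl⟩
  · exact h.form
  · rw [comp_assoc, sigC_one.1]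

theorem inX_ext {g k : ℕ} (hg : InX g) (hk : InX k) (h : ∀ v < 256, app g v = app k v) : g = k := by
  rw [← inX_form hg, ← inX_form hk]
  exact comp_ext fun v hv => by simp only [app_comp, app_one v hv]; exact h v hv

theorem inX_one_comp {g : ℕ} (h : InX g) : comp one g = g :=
  inX_ext (inX_comp (Or.inl inU_one) h) h fun v hv => by rw [app_comp, app_one _ (app_lt _ _)]

theorem inX_inv {g : ℕ} (h : InX g) : ∃ k, InX k ∧ comp k g = one ∧ comp g k = one := by
  have key : ∀ {g : ℕ}, InX g → ∃ k, InX k ∧ comp k g = one := by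
    intro g h
    rcases inX_cases h with h | ⟨u, hu, rfl⟩
    · obtain ⟨k, hk, e⟩ := U42Act.inU_inv h
      exact ⟨k, Or.inl hk, e⟩
    · obtain ⟨k, hk, e⟩ := U42Act.inU_inv hu
      refine ⟨comp sigC k, inX_comp inX_gen.1 (Or.inl hk), ?_⟩
      rw [comp_assoc, ← comp_assoc k, e, inX_one_comp inX_gen.1, sigC_one.2]
  obtain ⟨k, hk, e⟩ := key h
  obtain ⟨l, hl, e'⟩ := key hk
  refine ⟨k, hk, e, ?_⟩
  have : g = l := by
    rw [← inX_form hl, ← e, ← comp_assoc, e', inX_one_comp h]
  rw [this, e']

/-- The group. -/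
abbrev XG : Type := {g : ℕ // InX g}

noncomputable instance : Group XG where
  mul g h := ⟨comp g.1 h.1, inX_comp g.2 h.2⟩
  one := ⟨one, Or.inl inU_one⟩
  inv g := ⟨(inX_inv g.2).choose, (inX_inv g.2).choose_spec.1⟩
  mul_assoc a b c := Subtype.ext (comp_assoc _ _ _)
  one_mul a := Subtype.ext (inX_one_comp a.2)
  mul_one a := Subtype.ext (inX_form a.2)
  inv_mul_cancel a := Subtype.ext (inX_inv a.2).choose_spec.2.1

theorem XG.val_mul (g h : XG) : (g * h).1 = comp g.1 h.1 := rfl

theorem XG.val_one : (1 : XG).1 = one := rfl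

theorem finite_inX : Finite XG := by
  haveI hF : Finite {g : ℕ // InU g} := Nat.finite_of_card_ne_zero (by rw [card_inU]; norm_num)
  have hA : Set.Finite {g : ℕ | InU g} := Set.finite_coe_iff.mp hF
  exact ((hA.union (hA.image fun u => comp u sigC)).subset fun g hg =>
    hg.imp id fun ⟨u, hu, e⟩ => ⟨u, hu, e.symm⟩).to_subtype

instance : Finite XG := finite_inX

/-- The inner part. -/
noncomputable def X0 : Subgroup XG where
  carrier := {g | InU g.1}
  one_mem' := inU_one
  mul_mem' := fun ha hb => U42Act.inU_comp ha hb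
  inv_mem' := by
    intro g hg
    obtain ⟨k, hk, e⟩ := U42Act.inU_inv hg
    have : g⁻¹ = (⟨k, Or.inl hk⟩ : XG) := inv_eq_of_mul_eq_one_left (Subtype.ext e)
    show InU (g⁻¹).1
    rw [this]; exact hk

theorem mem_X0 {g : XG} : g ∈ X0 ↔ InU g.1 := Iff.rfl

theorem sigC_not : ¬ InU sigC := by
  intro h
  have := h.unit.smul_app 2 1 (by norm_num) (by norm_num)
  revert this
  decide +kernel

theorem X0_two {a b : XG} (ha : a ∉ X0) (hb : b ∉ X0) : a * b ∈ X0 := by
  obtain ⟨u, hu, eu⟩ := a.2.resolve_left ha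
  obtain ⟨w, hw, ew⟩ := b.2.resolve_left hb
  show InU (comp a.1 b.1)
  rw [eu, ew, comp_assoc]
  exact U42Act.inU_comp hu (sigC_norm hw)

/-- The six-space action. -/
def pw (g : XG) (v : ℕ) : ℕ := app (psi g.1) v

theorem psi_one : psi one = one := by decide +kernel

theorem pw_one {v : ℕ} (hv : v < 256) : pw 1 v = v := by rw [pw, XG.val_one, psi_one, app_one v hv]

theorem pw_mul (g h : XG) (v : ℕ) : pw (g * h) v = pw g (pw h v) := by
  rw [pw, XG.val_mul, psi_mul g.2 h.2, app_comp]; rfl

/-- The six-space codes of the generators. -/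
def genPsi : List ℕ :=
  [9241436038901349889, 9241421688489576460, 9241399647490015745,
    9241395283536904705, 9241399664135111169, 9241444778686813953, 9241421688590303745]

theorem gen_psi : ((List.range 5).map gen ++ [sigC, one]).map psi = genPsi := by decide +kernel

theorem gen_form : (genPsi.all fun x => (List.range 256).all fun v =>
    Nat.beq (qW 0 (app x v)) (qW 0 v) && Nat.beq (qW 1 (app x v)) (qW 1 v) &&
      (bif Nat.blt v 64 then Nat.blt (app x v) 64 else true) &&
      (bif Nat.beq (v &&& 63) 0 then Nat.beq (app x v) v else true)) = true := by decide +kernel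

/-- The action preserves the forms, the six-space, and fixes the plane. -/
theorem pw_form (g : XG) : ∀ v < 256, (∀ e < 2, qW e (pw g v) = qW e v) ∧ (v < 64 → pw g v < 64) ∧
    (v &&& 63 = 0 → pw g v = v) := by
  have gen1 : ∀ x ∈ (List.range 5).map gen ++ [sigC, one], ∀ v < 256, (∀ e < 2, qW e (app (psi x) v) = qW e v) ∧
      (v < 64 → app (psi x) v < 64) ∧ (v &&& 63 = 0 → app (psi x) v = v) := by
    intro x hx v hv
    have t := List.all_eq_true.mp (List.all_eq_true.mp gen_form (psi x) (gen_psi ▸ List.mem_map.mpr ⟨x, hx, rfl⟩)) v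
      (List.mem_range.mpr hv)
    rw [Bool.and_eq_true, Bool.and_eq_true, Bool.and_eq_true, Nat.beq_eq, Nat.beq_eq] at t
    obtain ⟨⟨⟨a, b⟩, c⟩, d⟩ := t
    refine ⟨fun e he => by interval_cases e <;> assumption, fun h => ?_, fun h => ?_⟩
    · rw [show Nat.blt v 64 = true from Nat.blt_eq.mpr h, cond_true, Nat.blt_eq] at c; exact c
    · rw [h] at d
      exact Nat.eq_of_beq_eq_true d
  let P : ℕ → Prop := fun x => InX x ∧ ∀ v < 256, (∀ e < 2, qW e (app (psi x) v) = qW e v) ∧
    (v < 64 → app (psi x) v < 64) ∧ (v &&& 63 = 0 → app (psi x) v = v)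
  have mul : ∀ x y, P x → P y → P (comp x y) := fun x y hx hy => ⟨inX_comp hx.1 hy.1, fun v hv => by
    rw [psi_mul hx.1 hy.1, app_comp]
    obtain ⟨a, b, c⟩ := hy.2 v hv
    obtain ⟨a', b', c'⟩ := hx.2 (app (psi y) v) (app_lt _ _)
    exact ⟨fun e he => (a' e he).trans (a e he), fun h => b' (b h), fun h => by rw [c h] at c' ⊢; exact c' h⟩⟩
  have word : ∀ w : List ℕ, (∀ k ∈ w, k < 5) → P (evalW w) := by
    intro w
    induction w with
    | nil => exact fun _ => ⟨Or.inl inU_one, gen1 one (List.mem_append.mpr (Or.inr (by simp)))⟩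
    | cons k w ih =>
      intro h
      exact mul _ _ ⟨inX_gen.2.2 k (h k List.mem_cons_self), gen1 _ (List.mem_append.mpr (Or.inl
        (List.mem_map.mpr ⟨k, List.mem_range.mpr (h k List.mem_cons_self), rfl⟩)))⟩
        (ih fun m hm => h m (List.mem_cons_of_mem _ hm))
  have : P g.1 := by
    rcases inX_cases g.2 with h | ⟨u, hu, e⟩
    · obtain ⟨w, hw, e⟩ := U42Act.elt_word h
      rw [e]; exact word w hw
    · obtain ⟨w, hw, e'⟩ := U42Act.elt_word hu
      rw [e, e']
      exact mul _ _ (word w hw) ⟨inX_gen.1, gen1 sigC (List.mem_append.mpr (Or.inr (by simp)))⟩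
  exact this.2

theorem line_zero : (∀ v < 256, mem 0 v = Nat.blt v 16) ∧ (∀ v < 16, app sigC v < 16) := by decide +kernel

/-- The stabiliser of the standard line. -/
def lineStab : List ℕ := (List.range 960).map par ++ (List.range 960).map fun k => comp (par k) sigC

theorem lineStab_mem {g : ℕ} (h : InX g) (e : imgIdx g 0 = 0) : g ∈ lineStab := by
  obtain ⟨m, hm, hmem⟩ := (inX_spec h).1 0 (by norm_num)
  have := img_eq h (by norm_num) hm hmem
  rw [e] at this; subst this
  have low : ∀ v < 16, app g v < 16 := fun v hv => Nat.blt_eq.mp (by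
    rw [← line_zero.1 _ (app_lt g v), hmem v (by omega), line_zero.1 v (by omega)]
    exact Nat.blt_eq.mpr hv)
  rcases inX_cases h with hu | ⟨u, hu, eg⟩
  · obtain ⟨k, hk, e⟩ := par_spec hu (low 1 (by norm_num)) (low 4 (by norm_num))
    exact List.mem_append.mpr (Or.inl (List.mem_map.mpr ⟨k, List.mem_range.mpr hk, e.symm⟩))
  · have low' : ∀ v < 16, app u v < 16 := fun v hv => by
      have := low _ (line_zero.2 v hv)
      rwa [eg, app_comp, Fi22Cent.sigC_facts.2.2.2 v (by omega)] at this
    obtain ⟨k, hk, e⟩ := par_spec hu (low' 1 (by norm_num)) (low' 4 (by norm_num))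
    exact List.mem_append.mpr (Or.inr (List.mem_map.mpr ⟨k, List.mem_range.mpr hk, by rw [eg, e]⟩))

theorem stab_moves : (lineStab.all fun g => Nat.beq g one || (List.range 27).any fun l =>
    !mem l (app g (pA l)) || !mem l (app g (pB l))) = true := by decide +kernel

theorem lv_zero : ∀ l < 27, ∀ m < 27, lv l = lv m → l = m := by decide +kernel

/-- The action is faithful. -/
theorem pw_inj {g : XG} (h : ∀ v < 64, pw g v = v) : g = 1 := by
  obtain ⟨hL, hG⟩ := inX_spec g.2
  have fixl : ∀ l < 27, imgIdx g.1 l = l := fun l hl => lv_zero _ (img_lt g.2 hL hl) l hl (by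
    rw [← hG l hl]
    exact h _ (Nat.blt_eq.mp (List.all_eq_true.mp line_tables.2.2 l (List.mem_range.mpr hl))))
  have t := List.all_eq_true.mp stab_moves _ (lineStab_mem g.2 (fixl 0 (by norm_num)))
  rw [Bool.or_eq_true] at t
  rcases t with t | t
  · exact Subtype.ext (Nat.eq_of_beq_eq_true t)
  · obtain ⟨l, hl, e⟩ := List.any_eq_true.mp t
    rw [List.mem_range] at hl
    obtain ⟨m, hm, hmem⟩ := hL l hl
    have := img_eq g.2 hl hm hmem
    rw [fixl l hl] at this; subst this
    have tA := List.all_eq_true.mp line_tables.1 l (List.mem_range.mpr hl)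
    rw [Bool.and_eq_true, Bool.and_eq_true] at tA
    rw [hmem (pA l) (app_lt _ _), hmem (pB l) (app_lt _ _), tA.1.1, tA.1.2] at e
    simp at e

end CfsgLib.SixTwoType
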