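/-
Kernel computations on the stabiliser of the first singular vector.
-/
import Cfsg.Agent.Lib.SixTwoType.Group

set_option autoImplicit false
set_option maxRecDepth 100000
set_option linter.unusedVariables false

namespace CfsgLib.SixTwoType

open U6Rec
open CfsgLib.U42Act (qW)
open CfsgLib.Fi22Cent (InX sigC St invS)

/-- The check of the kind on codes. -/
def kindAc (g : ℕ) : Bool :=
  let p := psi g
  (List.range 64).all fun v => Nat.beq (qW 0 (v ^^^ app p v)) 0

theorem triple_check : (invS.all fun a => !(stL.elem a && kindAc a) || invS.all fun b =>
    Nat.beq a b || !Nat.beq (comp a b) (comp b a) || !(stL.elem b && kindAc b) || !kindAc (comp a b)) = true := by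
  decide +kernel

/-- The common centraliser in the stabiliser, as a list. -/
def centL (a b : ℕ) : List ℕ := St.filter fun k => Nat.beq (comp k a) (comp a k) && Nat.beq (comp k b) (comp b k)

theorem St_nodup : St.Nodup := by decide +kernel

theorem pair_check : (invS.all fun a => !stL.elem a || invS.all fun b =>
    Nat.beq a b || !Nat.beq (comp a b) (comp b a) ||
      (let L := centL a b
       !Nat.beq (L.length % 64) 0 || (Nat.beq L.length 64 && L.any fun x => L.any fun y =>
         !Nat.beq (comp x y) (comp y x) && !Nat.beq (comp x y) (comp a (comp y x))))) = true := by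
  decide +kernel

end CfsgLib.SixTwoType
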