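/-
Finite facts on involutions and two-subgroups of the unitary group with the field automorphism, reduced to the
stabiliser of the first singular vector.
-/
import Cfsg.Agent.Lib.SixTwoType.Checks
import Mathlib.GroupTheory.PGroup
import Mathlib.GroupTheory.GroupAction.Quotient

set_option autoImplicit false
set_option maxRecDepth 100000
set_option linter.unusedVariables false
set_option maxHeartbeats 1000000

namespace CfsgLib.SixTwoType

open U6Rec
open CfsgLib.U42Act (qW)
open CfsgLib.Fi22Cent (InX sigC St invS)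

attribute [local irreducible] U6Rec.comp U6Rec.app kindAc

/-- All displacements are singular. -/
def KindA (g : XG) : Prop := ∀ v < 64, qW 0 (v ^^^ pw g v) = 0

theorem kindA_iff (g : XG) : KindA g ↔ kindAc g.1 = true := by
  simp [KindA, kindAc, pw, List.all_eq_true]

theorem inX_qf {g : ℕ} (hg : InX g) {v : ℕ} (hv : v < 256) : qf (app g v) = qf v := by
  rcases inX_cases hg with h | ⟨u, hu, rfl⟩
  · exact h.unit.qf_app hv
  · rw [app_comp, hu.unit.qf_app (app_lt _ _), Fi22Cent.sigC_facts.1 v hv]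

theorem inX_inj {g : ℕ} (hg : InX g) {u v : ℕ} (hu : u < 256) (hv : v < 256) (e : app g u = app g v) : u = v := by
  obtain ⟨k, hk, e1, -⟩ := inX_inv hg
  have := congrArg (app k) e
  rwa [← app_comp, ← app_comp, e1, app_one u hu, app_one v hv] at this

/-- The singular vectors. -/
def SingV : Type := {v : ℕ // Sing v}

instance : Finite SingV := ((Set.finite_Iio 256).subset fun v (h : Sing v) => h.1).to_subtype

theorem card_singV : Nat.card SingV = 135 := by
  have e : SingV ≃ {v : ℕ // v ∈ singL.toFinset} :=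
    Equiv.subtypeEquivRight fun v => by rw [List.mem_toFinset]; exact sing_iff
  rw [Nat.card_congr e, Nat.card_eq_fintype_card, Fintype.card_coe, List.toFinset_card_of_nodup singL_nodup]
  exact pts_list.2.2

theorem inX_sing (g : XG) {v : ℕ} (h : Sing v) : Sing (app g.1 v) :=
  ⟨app_lt _ _, fun e => h.2.1 (inX_inj g.2 h.1 (by norm_num) (e.trans (app_zero _).symm)),
    (inX_qf g.2 h.1).trans h.2.2⟩

noncomputable instance : MulAction XG SingV where
  smul g v := ⟨app g.1 v.1, inX_sing g v.2⟩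
  one_smul v := Subtype.ext (app_one _ v.2.1)
  mul_smul g h v := Subtype.ext (app_comp _ _ _)

/-- A two-group fixes a singular vector. -/
theorem fixed_point (P : Subgroup XG) (hP : IsPGroup 2 P) : ∃ v, Sing v ∧ ∀ p ∈ P, app p.1 v = v := by
  haveI : Fact (Nat.Prime 2) := ⟨Nat.prime_two⟩
  obtain ⟨v, hv⟩ := hP.nonempty_fixed_point_of_prime_not_dvd_card SingV (by rw [card_singV]; norm_num)
  exact ⟨v.1, v.2, fun p hp => congrArg Subtype.val (hv ⟨p, hp⟩)⟩

theorem mem_St {g : ℕ} (hg : InX g) (h1 : app g 1 = 1) : g ∈ St := by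
  have key : ∀ {u : ℕ}, InU u → app u 1 = 1 → u ∈ stL := fun {u} hu e => by
    obtain ⟨j, hj, rfl⟩ := stab_first hu e
    have hl : stL.length = 192 := forms.2.2.2.2.2.2
    rw [st, List.getD_eq_getElem?_getD, List.getElem?_eq_getElem (show j < stL.length by omega)]
    exact List.getElem_mem _
  rcases inX_cases hg with h | ⟨u, hu, rfl⟩
  · exact List.mem_append.mpr (Or.inl (key h h1))
  · rw [app_comp, Fi22Cent.sigC_facts.2.1] at h1
    exact List.mem_append.mpr (Or.inr (List.mem_map.mpr ⟨u, key hu h1, rfl⟩))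

/-- A two-group is conjugate into the stabiliser of the first vector. -/
theorem into_St (P : Subgroup XG) (hP : IsPGroup 2 P) :
    ∃ r ∈ X0, ∀ p ∈ P, app (r⁻¹ * p * r).1 1 = 1 := by
  obtain ⟨v, hv, hf⟩ := fixed_point P hP
  obtain ⟨i, hi, ei⟩ := sing_rep hv
  refine ⟨⟨rep i, Or.inl (inU_rep hi)⟩, inU_rep hi, fun p hp => ?_⟩
  let r : XG := ⟨rep i, Or.inl (inU_rep hi)⟩
  show app (comp (comp (r⁻¹).1 p.1) (rep i)) 1 = 1
  rw [app_comp, app_comp, ei, hf p hp, ← ei, ← app_comp, show comp (r⁻¹).1 (rep i) = one from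
    congrArg Subtype.val (inv_mul_cancel r), app_one 1 (by norm_num)]

theorem invol_invS {g : XG} (h2 : g * g = 1) (h1 : g ≠ 1) (e : app g.1 1 = 1) : g.1 ∈ invS := by
  refine List.mem_filter.mpr ⟨mem_St g.2 e, ?_⟩
  rw [Bool.and_eq_true, Nat.beq_eq, Bool.not_eq_true', ← Bool.not_eq_true, Nat.beq_eq]
  exact ⟨fun e => h1 (Subtype.ext e), congrArg Subtype.val h2⟩

theorem inner_elem {g : XG} (e : app g.1 1 = 1) : g ∈ X0 ↔ stL.elem g.1 = true := by
  rw [List.elem_eq_mem, decide_eq_true_eq]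
  constructor
  · intro h
    obtain ⟨j, hj, ej⟩ := stab_first (mem_X0.mp h) e
    have hl : stL.length = 192 := forms.2.2.2.2.2.2
    rw [ej, st, List.getD_eq_getElem?_getD, List.getElem?_eq_getElem (show j < stL.length by omega)]
    exact List.getElem_mem _
  · intro h
    obtain ⟨j, hj, ej⟩ := List.mem_iff_getElem.mp h
    have hl : stL.length = 192 := forms.2.2.2.2.2.2
    show InU g.1
    rw [← ej, show stL[j] = st j from by rw [st, List.getD_eq_getElem?_getD, List.getElem?_eq_getElem hj]; rfl]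
    exact inU_st (by omega)

theorem X0_conj {r g : XG} (hr : r ∈ X0) : r⁻¹ * g * r ∈ X0 ↔ g ∈ X0 := by
  constructor
  · intro h
    have := X0.mul_mem (X0.mul_mem hr h) (X0.inv_mem hr)
    rwa [show r * (r⁻¹ * g * r) * r⁻¹ = g by group] at this
  · exact fun h => X0.mul_mem (X0.mul_mem (X0.inv_mem hr) h) hr

theorem pw_lt (g : XG) (v : ℕ) : pw g v < 256 := app_lt _ _

theorem pw_add (g : XG) (u v : ℕ) : pw g (u ^^^ v) = pw g u ^^^ pw g v := app_add _ u v

theorem pw_inv_self (g : XG) {v : ℕ} (hv : v < 256) : pw g⁻¹ (pw g v) = v := by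
  rw [← pw_mul, inv_mul_cancel, pw_one hv]

theorem disp_conj (r g : XG) {v : ℕ} (hv : v < 256) :
    v ^^^ pw (r⁻¹ * g * r) v = pw r⁻¹ (pw r v ^^^ pw g (pw r v)) := by
  rw [pw_add, pw_inv_self r hv, pw_mul, pw_mul]

theorem kindA_conj (r : XG) {g : XG} (h : KindA g) : KindA (r⁻¹ * g * r) := by
  intro v hv
  have hl := (pw_form r v (by omega)).2.1 hv
  rw [disp_conj r g (by omega), (pw_form r⁻¹ _ (U42Act.xlt (pw_lt _ _) (pw_lt _ _))).1 0 (by norm_num)]
  exact h _ hl

theorem kindA_back (r : XG) {g : XG} (h : KindA (r⁻¹ * g * r)) : KindA g := by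
  have := kindA_conj r⁻¹ h
  rwa [inv_inv, show r * (r⁻¹ * g * r) * r⁻¹ = g by group] at this

theorem pair_two {a b : XG} (ha : a * a = 1) (hb : b * b = 1) (hc : Commute a b) :
    IsPGroup 2 (Subgroup.closure ({a, b} : Set XG)) := by
  have hcl : ∀ x ∈ Subgroup.closure ({a, b} : Set XG), Commute x a ∧ Commute x b ∧ x * x = 1 := by
    intro x hx
    induction hx using Subgroup.closure_induction with
    | mem y hy =>
      rcases hy with rfl | rfl
      · exact ⟨Commute.refl _, hc, ha⟩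
      · exact ⟨hc.symm, Commute.refl _, hb⟩
    | one => exact ⟨Commute.one_left _, Commute.one_left _, mul_one 1⟩
    | mul y z hy hz ihy ihz =>
      refine ⟨ihy.1.mul_left ihz.1, ihy.2.1.mul_left ihz.2.1, ?_⟩
      have : Commute y z := by
        have : Subgroup.closure ({a, b} : Set XG) ≤ Subgroup.centralizer {y} :=
          (Subgroup.closure_le _).mpr fun w hw => Subgroup.mem_centralizer_singleton_iff.mpr (by
            rcases hw with rfl | rfl
            exacts [ihy.1.eq.symm, ihy.2.1.eq.symm])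
        exact (Subgroup.mem_centralizer_singleton_iff.mp (this hz)).symm
      rw [mul_assoc, ← mul_assoc z y z, ← this.eq, mul_assoc y z z, ihz.2.2, mul_one, ihy.2.2]
    | inv y hy ih => exact ⟨ih.1.inv_left, ih.2.1.inv_left, by rw [← mul_inv_rev, ih.2.2, inv_one]⟩
  exact fun x => ⟨1, Subtype.ext (by simpa [pow_two] using (hcl x.1 x.2).2.2)⟩

/-- The product of two commuting involutions of the first kind is not of the first kind. -/
theorem no_triple {a b : XG} (ha : a ∈ X0) (hb : b ∈ X0) (a2 : a * a = 1) (b2 : b * b = 1) (a1 : a ≠ 1) (b1 : b ≠ 1)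
    (hab : a ≠ b) (hc : Commute a b) (ka : KindA a) (kb : KindA b) : ¬ KindA (a * b) := by
  intro kab
  obtain ⟨r, hr, hf⟩ := into_St _ (pair_two a2 b2 hc)
  have h : ∀ g ∈ ({a, b} : Set XG), g ∈ X0 → g * g = 1 → g ≠ 1 → KindA g →
      (r⁻¹ * g * r).1 ∈ invS ∧ (stL.elem (r⁻¹ * g * r).1 && kindAc (r⁻¹ * g * r).1) = true := by
    intro g hg g0 g2 g1 kg
    have e := hf g (Subgroup.subset_closure hg)
    refine ⟨invol_invS (by rw [show r⁻¹ * g * r * (r⁻¹ * g * r) = r⁻¹ * (g * g) * r by group, g2]; group)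
      (fun h => g1 (by rw [show g = r * (r⁻¹ * g * r) * r⁻¹ by group, h]; group)) e, ?_⟩
    rw [Bool.and_eq_true, ← inner_elem e, ← kindA_iff]
    exact ⟨(X0_conj hr).mpr g0, kindA_conj r kg⟩
  obtain ⟨am, ak⟩ := h a (by simp) ha a2 a1 ka
  obtain ⟨bm, bk⟩ := h b (by simp) hb b2 b1 kb
  have t := List.all_eq_true.mp triple_check _ am
  rw [ak, Bool.not_true, Bool.false_or, List.all_eq_true] at t
  have t' := t _ bm
  rw [bk, Bool.not_true, Bool.or_false] at t'
  have eab : comp (r⁻¹ * a * r).1 (r⁻¹ * b * r).1 = (r⁻¹ * (a * b) * r).1 := by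
    rw [← XG.val_mul]; exact congrArg Subtype.val (by group)
  have eba : comp (r⁻¹ * b * r).1 (r⁻¹ * a * r).1 = (r⁻¹ * (a * b) * r).1 := by
    rw [← XG.val_mul, hc.eq]; exact congrArg Subtype.val (by group)
  rw [eab, eba, (kindA_iff _).mp (kindA_conj r kab)] at t'
  simp only [Nat.beq_refl, Bool.not_true, Bool.or_false, Nat.beq_eq] at t'
  exact hab (mul_left_cancel (mul_right_cancel (Subtype.ext t' : r⁻¹ * a * r = r⁻¹ * b * r)))

theorem St_inX {g : ℕ} (h : g ∈ St) : InX g ∧ app g 1 = 1 := by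
  have hl : stL.length = 192 := forms.2.2.2.2.2.2
  have key : ∀ {u}, u ∈ stL → InU u ∧ app u 1 = 1 := fun {u} hu => by
    obtain ⟨j, hj, e⟩ := List.mem_iff_getElem.mp hu
    rw [← e, show stL[j] = st j from by rw [st, List.getD_eq_getElem?_getD, List.getElem?_eq_getElem hj]; rfl]
    exact ⟨inU_st (by omega), st_one (by omega)⟩
  rcases List.mem_append.mp h with h | h
  · exact ⟨Or.inl (key h).1, (key h).2⟩
  · obtain ⟨u, hu, rfl⟩ := List.mem_map.mp h
    exact ⟨Or.inr ⟨u, (key hu).1, rfl⟩, by rw [app_comp, Fi22Cent.sigC_facts.2.1]; exact (key hu).2⟩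

/-- The stabiliser of the first vector. -/
noncomputable def Stab1 : Subgroup XG where
  carrier := {g | app g.1 1 = 1}
  one_mem' := app_one 1 (by norm_num)
  mul_mem' := fun {a b} ha hb => by
    show app (comp a.1 b.1) 1 = 1
    rw [app_comp, hb, ha]
  inv_mem' := fun {a} ha => by
    show app (a⁻¹).1 1 = 1
    have e : comp (a⁻¹).1 a.1 = one := congrArg Subtype.val (inv_mul_cancel a)
    conv_lhs => arg 2; rw [← ha]
    rw [← app_comp, e, app_one 1 (by norm_num)]

theorem cent_card (a b : XG) :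
    Nat.card ↥(Stab1 ⊓ Subgroup.centralizer {a} ⊓ Subgroup.centralizer {b}) = (centL a.1 b.1).length := by
  classical
  have hn : (centL a.1 b.1).Nodup := St_nodup.filter _
  let e : ↥(Stab1 ⊓ Subgroup.centralizer {a} ⊓ Subgroup.centralizer {b}) ≃ {k : ℕ // k ∈ (centL a.1 b.1).toFinset} :=
    { toFun := fun g => ⟨g.1.1, by
        obtain ⟨⟨h1, h2⟩, h3⟩ := g.2
        rw [List.mem_toFinset]
        refine List.mem_filter.mpr ⟨mem_St g.1.2 h1, ?_⟩
        rw [Bool.and_eq_true, Nat.beq_eq, Nat.beq_eq]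
        exact ⟨congrArg Subtype.val (Subgroup.mem_centralizer_singleton_iff.mp h2),
          congrArg Subtype.val (Subgroup.mem_centralizer_singleton_iff.mp h3)⟩⟩
      invFun := fun k => ⟨⟨k.1, (St_inX (List.mem_of_mem_filter (List.mem_toFinset.mp k.2))).1⟩, by
        obtain ⟨hm, hc⟩ := List.mem_filter.mp (List.mem_toFinset.mp k.2)
        rw [Bool.and_eq_true, Nat.beq_eq, Nat.beq_eq] at hc
        exact ⟨⟨(St_inX hm).2, Subgroup.mem_centralizer_singleton_iff.mpr (Subtype.ext hc.1)⟩,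
          Subgroup.mem_centralizer_singleton_iff.mpr (Subtype.ext hc.2)⟩⟩
      left_inv := fun g => rfl
      right_inv := fun k => rfl }
  rw [Nat.card_congr e, Nat.card_eq_fintype_card, Fintype.card_coe, List.toFinset_card_of_nodup hn]

/-- No two-group of order divisible by sixty-four has such a central pair. -/
theorem no_central_pair (P : Subgroup XG) (hP : IsPGroup 2 P) (h64 : 64 ∣ Nat.card P) {a b : XG} (aP : a ∈ P) (bP : b ∈ P)
    (a0 : a ∈ X0) (a2 : a * a = 1) (b2 : b * b = 1) (a1 : a ≠ 1) (b1 : b ≠ 1) (hab : a ≠ b)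
    (cb : ∀ p ∈ P, Commute p b) (ca : ∀ p ∈ P, Commute p a)
    (der : ∀ x ∈ P, ∀ y ∈ P, x * y = y * x ∨ x * y = a * (y * x)) : False := by
  classical
  obtain ⟨r, hr, hf⟩ := into_St P hP
  set c := fun g : XG => r⁻¹ * g * r with hc
  have cmul : ∀ g h, c (g * h) = c g * c h := fun g h => by simp only [hc]; group
  have cinj : ∀ g h, c g = c h → g = h := fun g h e => mul_left_cancel (mul_right_cancel e)
  have c1 : c 1 = 1 := by simp only [hc]; group
  have am : (c a).1 ∈ invS := invol_invS (by rw [← cmul, a2, c1]) (fun e => a1 (cinj _ _ (e.trans c1.symm))) (hf a aP)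
  have bm : (c b).1 ∈ invS := invol_invS (by rw [← cmul, b2, c1]) (fun e => b1 (cinj _ _ (e.trans c1.symm))) (hf b bP)
  have t := List.all_eq_true.mp pair_check _ am
  rw [(inner_elem (hf a aP)).mp ((X0_conj hr).mpr a0), Bool.not_true, Bool.false_or, List.all_eq_true] at t
  have t' := t _ bm
  have hcm : comp (c a).1 (c b).1 = comp (c b).1 (c a).1 := by
    rw [← XG.val_mul, ← XG.val_mul, ← cmul, ← cmul, (cb a aP).eq]
  simp only [hcm, Nat.beq_refl, Bool.not_true, Bool.or_false, Bool.or_eq_true, Bool.not_eq_true', Bool.and_eq_true,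
    Nat.beq_eq, List.any_eq_true] at t'
  set Q := P.map (MulAut.conj r⁻¹).toMonoidHom with hQ
  have hQle : Q ≤ Stab1 ⊓ Subgroup.centralizer {c a} ⊓ Subgroup.centralizer {c b} := by
    rintro _ ⟨p, hp, rfl⟩
    have e : (MulAut.conj r⁻¹).toMonoidHom p = c p := by simp [hc]
    rw [e]
    exact ⟨⟨hf p hp, Subgroup.mem_centralizer_singleton_iff.mpr (by rw [← cmul, ← cmul, (ca p hp).eq])⟩,
      Subgroup.mem_centralizer_singleton_iff.mpr (by rw [← cmul, ← cmul, (cb p hp).eq])⟩
  have hQc : Nat.card Q = Nat.card P :=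
    Nat.card_congr (Subgroup.equivMapOfInjective P _ (MulAut.conj r⁻¹).injective).symm.toEquiv
  have hd : 64 ∣ (centL (c a).1 (c b).1).length := by
    rw [← cent_card]; exact (h64.trans (hQc ▸ dvd_rfl)).trans (Subgroup.card_dvd_of_le hQle)
  rcases t' with hab' | hn | ⟨hlen, x, hx, y, hy, hxy, hxy'⟩
  · exact hab (cinj _ _ (Subtype.ext hab'))
  · rw [← Bool.not_eq_true, Nat.beq_eq] at hn; omega
  · have hEq : Q = Stab1 ⊓ Subgroup.centralizer {c a} ⊓ Subgroup.centralizer {c b} :=
      Subgroup.eq_of_le_of_card_ge hQle (by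
        rw [cent_card, hlen, hQc]; exact Nat.le_of_dvd Nat.card_pos h64)
    have inQ : ∀ k ∈ centL (c a).1 (c b).1, ∃ p ∈ P, (c p).1 = k := by
      intro k hk
      obtain ⟨hm, hc'⟩ := List.mem_filter.mp hk
      rw [Bool.and_eq_true, Nat.beq_eq, Nat.beq_eq] at hc'
      have : (⟨k, (St_inX hm).1⟩ : XG) ∈ Q := hEq ▸ ⟨⟨(St_inX hm).2, Subgroup.mem_centralizer_singleton_iff.mpr
        (Subtype.ext hc'.1)⟩, Subgroup.mem_centralizer_singleton_iff.mpr (Subtype.ext hc'.2)⟩
      obtain ⟨p, hp, e⟩ := this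
      refine ⟨p, hp, ?_⟩
      rw [show c p = (MulAut.conj r⁻¹).toMonoidHom p by simp [hc], e]
    obtain ⟨p, hp, ep⟩ := inQ x hx
    obtain ⟨s, hs, es⟩ := inQ y hy
    rw [← ep, ← es, ← XG.val_mul, ← XG.val_mul, ← cmul, ← cmul] at hxy
    rw [← ep, ← es, ← XG.val_mul, ← XG.val_mul, ← XG.val_mul, ← cmul, ← cmul, ← cmul] at hxy'
    rw [← Bool.not_eq_true, Nat.beq_eq] at hxy hxy'
    rcases der p hp s hs with h | h
    · exact hxy (congrArg Subtype.val (congrArg c h))
    · exact hxy' (congrArg Subtype.val (congrArg c h))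

end CfsgLib.SixTwoType
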