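/-
Kernel computations for the local facts on involutions and on stabilisers in the six-space.
-/
import Cfsg.Agent.Lib.SixTwoType.Group

set_option autoImplicit false
set_option maxRecDepth 100000
set_option linter.unusedVariables false

namespace CfsgLib.SixTwoType

open U6Rec
open CfsgLib.U42Act (qW bq)
open CfsgLib.Fi22Cent (InX sigC St invS)

/-- Transvections and products of two, with inverses and six-space codes. -/
def witL : List (ℕ × ℕ × ℕ) :=
  [(9819008340800569857, 9819008340800569857, 9241421688506223620),
   (9819008340800578065, 9819008340800578065, 9241437142809119798),
   (9818975291027234832, 9818975291027234832, 9241433830382452535),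
   (11551768297431378453, 11551768297431378453, 9241421749376846886),
   (11696140723983493140, 11696140723983493140, 9241421735753494311),
   (10407853992079273497, 10407853992079273497, 9241421688523457027),
   (10480736189773261848, 10480736189773261848, 9241421688590827778),
   (12709193401665594909, 12709193401665594909, 9241437082140609558),
   (12925900533545575452, 12925900533545575452, 9241433783135706903),
   (9963416020444250625, 9963416020444250625, 9241427186433660417),
   (9963416023133889105, 9963416023133889105, 9241411728846370064),
   (2454789544265951829, 2454789544265951829, 9241413940956632577),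
   (10035750725772116481, 10035750725772116481, 9241421710618797569),
   (10035750728731222737, 10035750728731222737, 9241387703067751712),
   (3684549354097501917, 3684549354097501917, 9241391009858856449),
   (9241421688590311953, 9241421688590311953, 9241437142724772413),
   (9241421690741989905, 9241421690741989905, 9241410788802167351),
   (577621907453518353, 577621907453518353, 9241418515367935489),
   (9241421691279934017, 9241421691279934017, 9241455967566442526),
   (2887968516832528965, 2887968516832528965, 9241450439740621373),
   (9241421691549401793, 9241421691549401793, 9241453777133121582),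
   (4045393621336213197, 4045393621336213197, 9241446058606592573),
   (9241421691013612161, 9241421691013612161, 9241415203192963643),
   (1744054211214102153, 1744054211214102153, 9241420723014811197),
   (9241388638816968720, 9241388638816968720, 9241433830466206265),
   (9241562703679816257, 9241562703679816257, 9241455941627099705),
   (9241492884977763009, 9241492884977763009, 9241447179894864441),
   (12129354949641644565, 12129354949641644565, 9241421749292499501),
   (12129498167511427605, 12129498167511427605, 9241421852369486375),
   (12273727376193759252, 12273727376193759252, 9241421735837248041),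
   (10985440644289539609, 10985440644289539609, 9241421688472800264),
   (10985540517837549081, 15759611123177270619, 9241435982125796377),
   (11058322841983527960, 11058322841983527960, 9241421688506287116),
   (9241421690741981697, 9241421690741981697, 9241432726659531321),
   (9241564906460086785, 9241564906460086785, 9241421731542204969),
   (9241495087488565761, 9241495087488565761, 9241432683707761177),
   (9241421691279942225, 9241421691279942225, 9241389738328600592),
   (9241529653906481232, 9241529653906481232, 9241399647490015745),
   (2887968516832537173, 2887968516832537173, 9241395249175069185),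
   (9241421691549410001, 9241421691549410001, 9241387547895279648),
   (9241459835204427984, 9241459835204427984, 9241390885757780481),
   (4045393621336221405, 4045393621336221405, 9241390868041040385)]

theorem wit_ok : (witL.all fun t => U42Act.memOK t.1 && U42Act.memOK t.2.1 && Nat.beq (comp t.1 t.2.1) one &&
    Nat.beq (psi t.1) t.2.2) = true := by decide +kernel

theorem inner_check : (invS.all fun a => !stL.elem a ||
    let p := psi a
    ((List.range 64).any fun x => Nat.beq (app p x) x && (List.range 64).any fun y =>
      Nat.beq (app p y) y && Nat.beq (bq (qW 0) x y) 1) &&
    ((List.range 64).any fun x =>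
      let d := x ^^^ app p x
      !Nat.beq d 0 && Nat.beq (qW 0 d) 0 && (List.range 64).any fun y =>
        let e := y ^^^ app p y
        !Nat.beq e 0 && !Nat.beq e d && (List.range 64).all fun v =>
          let f := v ^^^ app p v
          Nat.beq f 0 || Nat.beq f d || Nat.beq f e || Nat.beq f (d ^^^ e)) &&
    ((List.range 64).all fun v => ((List.range 64).any fun f => Nat.beq (app p f) f && Nat.beq (bq (qW 0) v f) 1) ||
      (List.range 64).any fun u => Nat.beq (u ^^^ app p u) v)) = true := by decide +kernel

theorem outer_check : (invS.all fun a => stL.elem a ||
    let p := psi a
    ((List.range 64).any fun x => Nat.beq (qW 0 (x ^^^ app p x)) 1) &&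
    (((List.range 64).any fun x => Nat.beq (app p x) x && (List.range 64).any fun y =>
      Nat.beq (app p y) y && Nat.beq (bq (qW 0) x y) 1) ||
    ((List.range 64).any fun x => !Nat.beq (x ^^^ app p x) 0 && Nat.beq (qW 0 (x ^^^ app p x)) 0))) = true := by
  decide +kernel

theorem fix_check : (invS.all fun a => !stL.elem a ||
    let p := psi a
    (List.range 64).all fun w => !(Nat.beq w 0 || Nat.beq (qW 0 w) 1) || !Nat.beq (app p w) w ||
      witL.any fun t => Nat.beq (app t.2.2 w) w &&
        let c := comp t.1 (comp a t.2.1)
        !Nat.beq (comp c a) (comp a c)) = true := by decide +kernel

theorem sing_lv : ((List.range 64).all fun w => Nat.beq w 0 || Nat.beq (qW 0 w) 1 ||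
    (List.range 27).any fun l => Nat.beq (lv l) w) = true ∧
    ((List.range 27).all fun l => Nat.blt (lineW.getD l (0, 0)).1 135 && Nat.blt (lineW.getD l (0, 0)).2 192 &&
      Nat.beq (app (psi (lineEl l)) 5) (lv l)) = true := by decide +kernel

theorem odd_check : Nat.blt (parW.getD 64 (0, 0)).1 135 = true ∧ Nat.blt (parW.getD 64 (0, 0)).2 192 = true ∧
    Nat.blt (parW.getD 192 (0, 0)).1 135 = true ∧ Nat.blt (parW.getD 192 (0, 0)).2 192 = true ∧
    comp (par 64) (comp (par 64) (par 64)) = one ∧
    comp (par 192) (comp (par 192) (comp (par 192) (comp (par 192) (par 192)))) = one ∧
    app (psi (par 64)) 5 = 5 ∧ app (psi (par 192)) 5 = 5 ∧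
    ((List.range 64).all fun v => !Nat.beq (app (psi (par 64)) v) v || !Nat.beq (app (psi (par 192)) v) v ||
      Nat.beq v 0 || Nat.beq v 5) = true ∧
    (lineStab.all fun g => !Nat.beq (comp g (par 64)) (comp (par 64) g) ||
      !Nat.beq (comp g (par 192)) (comp (par 192) g) || Nat.beq g one) = true := by decide +kernel

/-- An element of order eight. -/
def oct : ℕ := St.getD 197 one

theorem oct_spec : St.elem oct = true ∧
    comp (comp (comp oct oct) (comp oct oct)) (comp (comp oct oct) (comp oct oct)) = one ∧
    comp (comp oct oct) (comp oct oct) ≠ one := by decide +kernel

end CfsgLib.SixTwoType
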