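/-
Local facts on involutions of the extended group in its action on the six-space, and on the stabilisers of
vectors in it.
-/
import Cfsg.Agent.Lib.SixTwoType.Facts
import Cfsg.Agent.Lib.SixTwoType.LocalChecks
import Mathlib.GroupTheory.Sylow

set_option autoImplicit false
set_option maxRecDepth 100000
set_option maxHeartbeats 1000000
set_option linter.unusedVariables false

namespace CfsgLib.SixTwoType

open U6Rec
open CfsgLib.U42Act (qW bq)
open CfsgLib.Fi22Cent (InX sigC St invS)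

attribute [local irreducible] U6Rec.comp U6Rec.app kindAc psi

theorem pw_zero (g : XG) : pw g 0 = 0 := app_zero _

theorem pw_six (g : XG) {v : ℕ} (hv : v < 64) : pw g v < 64 := (pw_form g v (by omega)).2.1 hv

theorem pw_qW (g : XG) {e v : ℕ} (he : e < 2) (hv : v < 256) : qW e (pw g v) = qW e v := (pw_form g v hv).1 e he

theorem pw_bq (g : XG) {e u v : ℕ} (he : e < 2) (hu : u < 256) (hv : v < 256) :
    bq (qW e) (pw g u) (pw g v) = bq (qW e) u v := by
  simp only [bq, ← pw_add, pw_qW g he (U42Act.xlt hu hv), pw_qW g he hu, pw_qW g he hv]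

theorem pw_self_inv (g : XG) {v : ℕ} (hv : v < 256) : pw g (pw g⁻¹ v) = v := by
  rw [← pw_mul, mul_inv_cancel, pw_one hv]

theorem pw_cancel (g : XG) {u v : ℕ} (hu : u < 256) (hv : v < 256) (h : pw g u = pw g v) : u = v := by
  rw [← pw_inv_self g hu, h, pw_inv_self g hv]

theorem invol_rep {a : XG} (a2 : a * a = 1) (a1 : a ≠ 1) :
    ∃ r ∈ X0, (r⁻¹ * a * r).1 ∈ invS ∧ (a ∈ X0 ↔ stL.elem (r⁻¹ * a * r).1 = true) := by
  obtain ⟨r, hr, hf⟩ := into_St _ (pair_two a2 a2 (Commute.refl a))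
  have e := hf a (Subgroup.subset_closure (by simp))
  refine ⟨r, hr, invol_invS ?_ ?_ e, ?_⟩
  · rw [show r⁻¹ * a * r * (r⁻¹ * a * r) = r⁻¹ * (a * a) * r by group, a2]; group
  · exact fun h => a1 (by rw [show a = r * (r⁻¹ * a * r) * r⁻¹ by group, h]; group)
  · rw [← inner_elem e]; exact (X0_conj hr).symm

theorem fix_back (r a : XG) {x : ℕ} (hx : x < 256) (h : pw (r⁻¹ * a * r) x = x) : pw a (pw r x) = pw r x := by
  refine pw_cancel r⁻¹ (pw_lt _ _) (pw_lt _ _) ?_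
  rw [← pw_mul, ← pw_mul, pw_inv_self r hx, h]

theorem disp_back (r a : XG) {v : ℕ} (hv : v < 256) :
    pw r (v ^^^ pw (r⁻¹ * a * r) v) = pw r v ^^^ pw a (pw r v) := by
  rw [disp_conj r a hv, pw_self_inv r (U42Act.xlt (pw_lt _ _) (pw_lt _ _))]

/-- An inner involution fixes a pair, has four displacements with one singular, and the radical of its fixed space
consists of displacements. -/
theorem inner_facts {a : XG} (a0 : a ∈ X0) (a2 : a * a = 1) (a1 : a ≠ 1) :
    (∃ p < 64, ∃ q < 64, pw a p = p ∧ pw a q = q ∧ bq (qW 0) p q = 1) ∧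
    (∃ x < 64, ∃ y < 64, x ^^^ pw a x ≠ 0 ∧ qW 0 (x ^^^ pw a x) = 0 ∧ y ^^^ pw a y ≠ 0 ∧
      y ^^^ pw a y ≠ x ^^^ pw a x ∧ ∀ v < 64, v ^^^ pw a v = 0 ∨ v ^^^ pw a v = x ^^^ pw a x ∨
        v ^^^ pw a v = y ^^^ pw a y ∨ v ^^^ pw a v = (x ^^^ pw a x) ^^^ (y ^^^ pw a y)) ∧
    (∀ v < 64, (∀ f < 64, pw a f = f → bq (qW 0) v f ≠ 1) → ∃ u < 64, u ^^^ pw a u = v) := by
  obtain ⟨r, hr, hm, he⟩ := invol_rep a2 a1
  set b := r⁻¹ * a * r with hb
  have t := List.all_eq_true.mp inner_check _ hm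
  rw [he.mp a0, Bool.not_true, Bool.false_or, Bool.and_eq_true, Bool.and_eq_true] at t
  obtain ⟨⟨tp, td⟩, tr⟩ := t
  simp only [List.any_eq_true, List.all_eq_true, List.mem_range, Bool.and_eq_true, Bool.or_eq_true, Bool.not_eq_true',
    ← Bool.not_eq_true, Nat.beq_eq] at tp td tr
  have l2 : ∀ {v}, v < 64 → v < 256 := fun h => by omega
  refine ⟨?_, ?_, ?_⟩
  · obtain ⟨p, hp, ep, q, hq, eq', hB⟩ := tp
    exact ⟨pw r p, pw_six r hp, pw r q, pw_six r hq, fix_back r a (l2 hp) ep, fix_back r a (l2 hq) eq',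
      (pw_bq r (by norm_num) (l2 hp) (l2 hq)).trans hB⟩
  · obtain ⟨x, hx, ⟨hx0, hx1⟩, y, hy, ⟨hy0, hy1⟩, hc⟩ := td
    have eX : pw r (x ^^^ pw b x) = pw r x ^^^ pw a (pw r x) := disp_back r a (l2 hx)
    have eY : pw r (y ^^^ pw b y) = pw r y ^^^ pw a (pw r y) := disp_back r a (l2 hy)
    have lx : x ^^^ pw b x < 256 := U42Act.xlt (l2 hx) (pw_lt _ _)
    have ly : y ^^^ pw b y < 256 := U42Act.xlt (l2 hy) (pw_lt _ _)
    refine ⟨pw r x, pw_six r hx, pw r y, pw_six r hy, ?_, ?_, ?_, ?_, fun v hv => ?_⟩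
    · rw [← eX]; exact fun h => hx0 (pw_cancel r lx (by norm_num) (h.trans (pw_zero r).symm))
    · rw [← eX, pw_qW r (by norm_num) lx]; exact hx1
    · rw [← eY]; exact fun h => hy0 (pw_cancel r ly (by norm_num) (h.trans (pw_zero r).symm))
    · rw [← eX, ← eY]; exact fun h => hy1 (pw_cancel r ly lx h)
    · obtain ⟨u, hu, rfl⟩ : ∃ u < 64, pw r u = v := ⟨pw r⁻¹ v, pw_six _ hv, pw_self_inv r (l2 hv)⟩
      rw [← eX, ← eY, ← disp_back r a (l2 hu), ← pw_add]
      rcases hc u hu with ((h | h) | h) | h <;> simp only [pw, app_zero] at h ⊢ <;> simp [b, h, app_zero]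
  · intro v hv hperp
    obtain ⟨w, hw, rfl⟩ : ∃ w < 64, pw r w = v := ⟨pw r⁻¹ v, pw_six _ hv, pw_self_inv r (l2 hv)⟩
    rcases tr w hw with ⟨f, hf, ef, hB⟩ | ⟨u, hu, eu⟩
    · exact absurd ((pw_bq r (by norm_num) (l2 hw) (l2 hf)).trans hB)
        (hperp _ (pw_six r hf) (fix_back r a (l2 hf) ef))
    · exact ⟨pw r u, pw_six r hu, by rw [← disp_back r a (l2 hu)]; exact congrArg (pw r) eu⟩

/-- An outer involution has a nonsingular displacement, and fixes a pair or has a singular displacement. -/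
theorem outer_facts {a : XG} (a0 : a ∉ X0) (a2 : a * a = 1) :
    (∃ x < 64, qW 0 (x ^^^ pw a x) = 1) ∧
    ((∃ p < 64, ∃ q < 64, pw a p = p ∧ pw a q = q ∧ bq (qW 0) p q = 1) ∨
      ∃ x < 64, x ^^^ pw a x ≠ 0 ∧ qW 0 (x ^^^ pw a x) = 0) := by
  obtain ⟨r, hr, hm, he⟩ := invol_rep a2 (fun e => a0 (e ▸ X0.one_mem))
  set b := r⁻¹ * a * r with hb
  have t := List.all_eq_true.mp outer_check _ hm
  rw [Bool.or_eq_true] at t
  have t := t.resolve_left fun h => a0 (he.mpr h)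
  simp only [List.any_eq_true, List.mem_range, Bool.and_eq_true, Bool.or_eq_true, Bool.not_eq_true',
    ← Bool.not_eq_true, Nat.beq_eq] at t
  have l2 : ∀ {v}, v < 64 → v < 256 := fun h => by omega
  obtain ⟨⟨x, hx, hxq⟩, t2⟩ := t
  refine ⟨⟨pw r x, pw_six r hx, ?_⟩, ?_⟩
  · rw [← disp_back r a (l2 hx), pw_qW r (by norm_num) (U42Act.xlt (l2 hx) (pw_lt _ _))]; exact hxq
  · rcases t2 with ⟨p, hp, ep, q, hq, eq', hB⟩ | ⟨y, hy, hy0, hy1⟩
    · exact Or.inl ⟨pw r p, pw_six r hp, pw r q, pw_six r hq, fix_back r a (l2 hp) ep, fix_back r a (l2 hq) eq',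
        (pw_bq r (by norm_num) (l2 hp) (l2 hq)).trans hB⟩
    · have ly : y ^^^ pw b y < 256 := U42Act.xlt (l2 hy) (pw_lt _ _)
      refine Or.inr ⟨pw r y, pw_six r hy, ?_, ?_⟩ <;> rw [← disp_back r a (l2 hy)]
      · exact fun h => hy0 (pw_cancel r ly (by norm_num) (h.trans (pw_zero r).symm))
      · rw [pw_qW r (by norm_num) ly]; exact hy1

/-- An inner involution fixing zero or a nonsingular vector does not commute with all its conjugates fixing it. -/
theorem fix_conj {a : XG} (a0 : a ∈ X0) (a2 : a * a = 1) (a1 : a ≠ 1) {w : ℕ} (hw : w < 64)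
    (hq : w = 0 ∨ qW 0 w = 1) (hf : pw a w = w) : ∃ s ∈ X0, pw s w = w ∧ ¬ Commute (s * a * s⁻¹) a := by
  obtain ⟨r, hr, hm, he⟩ := invol_rep a2 a1
  set b := r⁻¹ * a * r with hb
  have l : w < 256 := by omega
  set u := pw r⁻¹ w with hu
  have t := List.all_eq_true.mp fix_check _ hm
  rw [he.mp a0, Bool.not_true, Bool.false_or, List.all_eq_true] at t
  have t := t u (List.mem_range.mpr (pw_six _ hw))
  have hq' : u = 0 ∨ qW 0 u = 1 := hq.imp (fun h => by rw [hu, h, pw_zero]) fun h => by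
    rw [hu, pw_qW _ (by norm_num) l, h]
  have hb' : pw b u = u := by rw [hu, hb, pw_mul, pw_mul, pw_self_inv r l, hf]
  rw [pw] at hb'
  simp only [List.any_eq_true, Bool.and_eq_true, Bool.or_eq_true, Bool.not_eq_true', ← Bool.not_eq_true,
    Nat.beq_eq] at t
  obtain ⟨T, hT, e1, e2⟩ := t.resolve_left (by
    rintro (h | h)
    · exact h hq'
    · exact h hb')
  have ok := List.all_eq_true.mp wit_ok T hT
  rw [Bool.and_eq_true, Bool.and_eq_true, Bool.and_eq_true, Nat.beq_eq, Nat.beq_eq] at ok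
  obtain ⟨⟨⟨o1, o2⟩, o3⟩, o4⟩ := ok
  let s : XG := ⟨T.1, Or.inl (memOK_inU o1)⟩
  have si : s⁻¹.1 = T.2.1 := by
    have : s⁻¹ = ⟨T.2.1, Or.inl (memOK_inU o2)⟩ := inv_eq_of_mul_eq_one_right (Subtype.ext o3)
    rw [this]
  refine ⟨r * s * r⁻¹, X0.mul_mem (X0.mul_mem hr (memOK_inU o1)) (X0.inv_mem hr), ?_, fun hc => e2 ?_⟩
  · have es : pw s u = u := by rw [pw, o4]; exact e1
    rw [pw_mul, pw_mul, ← hu, es, hu, pw_self_inv r l]
  · have : Commute (s * b * s⁻¹) b := by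
      have := hc.map (MulAut.conj r⁻¹).toMonoidHom
      simp only [MulEquiv.coe_toMonoidHom, MulAut.conj_apply, inv_inv] at this
      convert this using 1 <;> rw [hb] <;> group
    have e := congrArg Subtype.val this.eq
    simp only [XG.val_mul, si, comp_assoc] at e ⊢
    exact e

/-- The stabiliser of a singular vector has two elements of odd order with no common centraliser. -/
theorem stab_odd {w : ℕ} (hw : w < 64) (h0 : w ≠ 0) (hq : qW 0 w ≠ 1) :
    ∃ s ∈ X0, ∃ t ∈ X0, pw s w = w ∧ pw t w = w ∧ s ^ 3 = 1 ∧ t ^ 5 = 1 ∧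
      (∀ v < 64, pw s v = v → pw t v = v → v = 0 ∨ v = w) ∧
      ∀ g : XG, pw g w = w → Commute g s → Commute g t → g = 1 := by
  have h := List.all_eq_true.mp sing_lv.1 w (List.mem_range.mpr hw)
  rw [Bool.or_eq_true, Bool.or_eq_true, Nat.beq_eq, Nat.beq_eq] at h
  obtain ⟨l, hl, e⟩ := List.any_eq_true.mp (h.resolve_left (by rintro (h | h); exacts [h0 h, hq h]))
  rw [Nat.beq_eq] at e
  have k := List.all_eq_true.mp sing_lv.2 l hl
  rw [Bool.and_eq_true, Bool.and_eq_true, Nat.blt_eq, Nat.blt_eq, Nat.beq_eq] at k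
  let r : XG := ⟨lineEl l, Or.inl (inU_elt k.1.1 k.1.2)⟩
  have er : pw r 5 = w := k.2.trans e
  obtain ⟨b1, b2, b3, b4, o3, o5, f1, f2, fx, cz⟩ := odd_check
  let s : XG := ⟨par 64, Or.inl (inU_elt (Nat.blt_eq.mp b1) (Nat.blt_eq.mp b2))⟩
  let t : XG := ⟨par 192, Or.inl (inU_elt (Nat.blt_eq.mp b3) (Nat.blt_eq.mp b4))⟩
  have rX : r ∈ X0 := inU_elt k.1.1 k.1.2
  have sX : s ∈ X0 := inU_elt (Nat.blt_eq.mp b1) (Nat.blt_eq.mp b2)
  have tX : t ∈ X0 := inU_elt (Nat.blt_eq.mp b3) (Nat.blt_eq.mp b4)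
  have s3 : s ^ 3 = 1 := by
    rw [pow_succ', pow_two]; exact Subtype.ext o3
  have t5 : t ^ 5 = 1 := by
    rw [show t ^ 5 = t * (t * (t * (t * t))) by simp [pow_succ, mul_assoc]]; exact Subtype.ext o5
  have r5 : pw r⁻¹ w = 5 := by rw [← er, pw_inv_self r (by norm_num)]
  refine ⟨r * s * r⁻¹, X0.mul_mem (X0.mul_mem rX sX) (X0.inv_mem rX), r * t * r⁻¹,
    X0.mul_mem (X0.mul_mem rX tX) (X0.inv_mem rX), ?_, ?_, ?_, ?_, fun v hv hs ht => ?_, fun g hg hs ht => ?_⟩
  · rw [pw_mul, pw_mul, r5, show pw s 5 = 5 from f1, er]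
  · rw [pw_mul, pw_mul, r5, show pw t 5 = 5 from f2, er]
  · rw [conj_pow, s3]; group
  · rw [conj_pow, t5]; group
  · have hu : pw r⁻¹ v < 64 := pw_six _ hv
    have key : ∀ {x : XG}, pw (r * x * r⁻¹) v = v → pw x (pw r⁻¹ v) = pw r⁻¹ v := fun {x} h => by
      rw [pw_mul, pw_mul] at h
      conv_rhs => rw [← h, pw_inv_self r (pw_lt _ _)]
    have := List.all_eq_true.mp fx _ (List.mem_range.mpr hu)
    have k1 := key hs
    have k2 := key ht
    rw [pw] at k1 k2
    simp only [Bool.or_eq_true, Bool.not_eq_true', ← Bool.not_eq_true, Nat.beq_eq] at this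
    rcases this with ((h | h) | h) | h
    · exact absurd k1 h
    · exact absurd k2 h
    · exact Or.inl (pw_cancel r⁻¹ (by omega) (by norm_num) (h.trans (pw_zero _).symm))
    · exact Or.inr (pw_cancel r⁻¹ (by omega) (by omega) (h.trans r5.symm))
  · set b := r⁻¹ * g * r with hb
    have h5 : pw b 5 = 5 := by rw [hb, pw_mul, pw_mul, er, hg, r5]
    have hm : imgIdx b.1 0 = 0 := by
      obtain ⟨hL, hG⟩ := inX_spec b.2
      refine lv_zero _ (img_lt b.2 hL (by norm_num)) 0 (by norm_num) ?_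
      rw [← hG 0 (by norm_num)]; exact h5
    have cs : ∀ {x : XG}, Commute g (r * x * r⁻¹) → comp b.1 x.1 = comp x.1 b.1 := fun {x} h => by
      have := h.map (MulAut.conj r⁻¹).toMonoidHom
      simp only [MulEquiv.coe_toMonoidHom, MulAut.conj_apply, inv_inv] at this
      rw [show r⁻¹ * (r * x * r⁻¹) * r = x by group, ← hb] at this
      exact congrArg Subtype.val this.eq
    have := List.all_eq_true.mp cz _ (lineStab_mem b.2 hm)
    simp only [Bool.or_eq_true, Bool.not_eq_true', ← Bool.not_eq_true, Nat.beq_eq] at this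
    rcases this with (h | h) | h
    · exact absurd (cs hs) h
    · exact absurd (cs ht) h
    · have hb1 : b = 1 := Subtype.ext h
      rw [show g = r * b * r⁻¹ by rw [hb]; group, hb1]; group

theorem card_XG : Nat.card XG = 51840 := by
  have h0 : Nat.card X0 = 25920 := by
    rw [← card_inU]
    exact Nat.card_congr
      ⟨fun g => ⟨g.1.1, g.2⟩, fun g => ⟨⟨g.1, Or.inl g.2⟩, g.2⟩, fun _ => rfl, fun _ => rfl⟩
  have hs : (⟨sigC, inX_gen.1⟩ : XG) ∉ X0 := sigC_not
  have hi : X0.index = 2 := Subgroup.index_eq_two_iff.mpr ⟨⟨sigC, inX_gen.1⟩, fun b => by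
    by_cases hb : b ∈ X0
    · exact Or.inr ⟨hb, fun h => hs (by simpa using X0.mul_mem (X0.inv_mem hb) h)⟩
    · exact Or.inl ⟨X0_two hb hs, hb⟩⟩
  rw [← Subgroup.card_mul_index X0, h0, hi]

/-- No subgroup of order one hundred and twenty-eight has exponent four. -/
theorem no_exp_four (P : Subgroup XG) (hc : Nat.card P = 128) (he : ∀ p ∈ P, (p * p) * (p * p) = 1) : False := by
  haveI : Fact (Nat.Prime 2) := ⟨Nat.prime_two⟩
  obtain ⟨h1, h8, h4⟩ := oct_spec
  rw [List.elem_eq_mem, decide_eq_true_eq] at h1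
  let g : XG := ⟨oct, (St_inX h1).1⟩
  have g8 : g ^ 8 = 1 := by
    rw [show g ^ 8 = ((g * g) * (g * g)) * ((g * g) * (g * g)) by simp [pow_succ, mul_assoc]]; exact Subtype.ext h8
  have hg : IsPGroup 2 (Subgroup.zpowers g) := by
    obtain ⟨k, hk, e⟩ := (Nat.dvd_prime_pow Nat.prime_two).mp (orderOf_dvd_of_pow_eq_one (n := 2 ^ 3) g8)
    exact IsPGroup.of_card (n := k) (by rw [Nat.card_zpowers, e])
  obtain ⟨Q, hQ⟩ := hg.exists_le_sylow
  have hP : IsPGroup 2 P := IsPGroup.of_card (n := 7) (by rw [hc]; norm_num)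
  obtain ⟨S, hS⟩ := hP.exists_le_sylow
  obtain ⟨n, hn⟩ := IsPGroup.iff_card.mp S.2
  have hd : Nat.card S ∣ 51840 := card_XG ▸ Subgroup.card_subgroup_dvd_card _
  have hle : Nat.card P ∣ Nat.card S := Subgroup.card_dvd_of_le hS
  have hS7 : Nat.card S = 128 := by
    change Nat.card S = 2 ^ n at hn
    rw [hn] at hd hle ⊢
    rw [hc] at hle
    have u : n ≤ 7 := by
      by_contra h
      exact absurd ((pow_dvd_pow 2 (show 8 ≤ n by omega)).trans hd) (by decide)
    have l : 7 ≤ n := (Nat.pow_dvd_pow_iff_le_right (show 1 < 2 by norm_num)).mp (by simpa using hle)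
    rw [show n = 7 by omega]; norm_num
  have eS : P = (S : Subgroup XG) := Subgroup.eq_of_le_of_card_ge hS (by rw [hc, hS7])
  obtain ⟨c, rfl⟩ := MulAction.exists_smul_eq XG S Q
  have hmem : g ∈ (c • S : Sylow 2 XG).toSubgroup := hQ (Subgroup.mem_zpowers g)
  rw [Sylow.coe_subgroup_smul, Subgroup.mem_pointwise_smul_iff_inv_smul_mem, ← eS] at hmem
  have := he _ hmem
  apply h4
  have e : (g * g) * (g * g) = 1 := by
    rw [← smul_mul', ← smul_mul'] at this
    exact smul_left_cancel (MulAut.conj c)⁻¹ (this.trans (smul_one _).symm)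
  exact congrArg Subtype.val e

end CfsgLib.SixTwoType
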