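/-
An involution whose centraliser is an extraspecial group extended by a group acting on six plus two coordinates.
-/
import Cfsg.Agent.Lib.SixTwoType.Local

set_option autoImplicit false
set_option maxRecDepth 100000
set_option maxHeartbeats 1000000
set_option linter.unusedVariables false

namespace CfsgLib.SixTwoType

open U6Rec
open CfsgLib.U42Act (qW bq)

attribute [local irreducible] U6Rec.comp U6Rec.app psi

theorem qW_split : ∀ e < 2, ∀ v < 256, qW e v = qW 0 (v &&& 63) ^^^ qW e (v &&& 192) ∧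
    bq (qW e) (v &&& 192) v = 0 ∧ qW e v < 2 ∧ (v < 64 → qW e v = qW 0 v) ∧
    (v ≠ 0 → ∃ i < 8, bq (qW e) v (1 <<< i) = 1) := by decide +kernel

theorem parts : ∀ v < 256, v = (v &&& 63) ^^^ (v &&& 192) ∧ v &&& 63 < 64 ∧ v &&& 192 < 256 ∧
    (v &&& 192) &&& 63 = 0 ∧ (v < 64 → v &&& 63 = v) ∧ (v &&& 63 = 0 → v &&& 192 = v) := by decide +kernel

theorem plane_bq : ∀ e < 2, bq (qW e) 1 2 = 1 ∧ bq (qW e) 4 8 = 1 ∧ bq (qW e) 16 32 = 1 ∧ bq (qW e) 64 128 = 1 ∧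
    (∀ p ∈ [1, 2], ∀ q ∈ [4, 8, 16, 32, 64, 128], bq (qW e) p q = 0) ∧
    (∀ p ∈ [4, 8], ∀ q ∈ [16, 32, 64, 128], bq (qW e) p q = 0) ∧
    (∀ p ∈ [16, 32], ∀ q ∈ [64, 128], bq (qW e) p q = 0) := by decide +kernel

theorem plane_low : ∀ e < 2, ∀ v < 64, bq (qW e) 64 v = 0 ∧ bq (qW e) 128 v = 0 := by decide +kernel

/-- The data. -/
structure Setting (G : Type*) [Group G] where
  z : G
  zz : z * z = 1
  z1 : z ≠ 1
  J : Subgroup G
  zJ : z ∈ J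
  Jz : ∀ j ∈ J, Commute j z
  conjJ : ∀ h, Commute h z → ∀ j ∈ J, h * j * h⁻¹ ∈ J
  κ : G → ℕ
  κ_lt : ∀ j ∈ J, κ j < 256
  κ_mul : ∀ a ∈ J, ∀ b ∈ J, κ (a * b) = κ a ^^^ κ b
  κ_ker : ∀ j ∈ J, κ j = 0 ↔ j = 1 ∨ j = z
  κ_surj : ∀ v < 256, ∃ j ∈ J, κ j = v
  e : ℕ
  he : e < 2
  sq : ∀ j ∈ J, j * j = if qW e (κ j) = 1 then z else 1
  σ : G → XG
  σ_mul : ∀ a b, Commute a z → Commute b z → σ (a * b) = σ a * σ b
  σ_ker : ∀ h, Commute h z → (σ h = 1 ↔ h ∈ J)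
  σ_surj : ∀ g ∈ X0, ∃ h, Commute h z ∧ σ h = g
  κ_W : ∀ h, Commute h z → ∀ j ∈ J, κ (h * j * h⁻¹) &&& 63 = pw (σ h) (κ j &&& 63)
  κ_low : ∀ h, Commute h z → ∀ j ∈ J, κ j < 64 → κ (h * j * h⁻¹) < 64
  κ_inner : ∀ h, Commute h z → σ h ∈ X0 → ∀ j ∈ J, κ (h * j * h⁻¹) = pw (σ h) (κ j)

namespace Setting

variable {G : Type*} [Group G] (C : Setting G)

/-- The bilinear form. -/
def B (u v : ℕ) : ℕ := bq (qW C.e) u v

theorem z_inv : C.z⁻¹ = C.z := inv_eq_of_mul_eq_one_right C.zz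

theorem κ_one : C.κ 1 = 0 := (C.κ_ker 1 (one_mem _)).mpr (Or.inl rfl)

theorem κ_z : C.κ C.z = 0 := (C.κ_ker _ C.zJ).mpr (Or.inr rfl)

theorem κ_inv {j : G} (hj : j ∈ C.J) : C.κ j⁻¹ = C.κ j := by
  have h := C.κ_mul j⁻¹ (inv_mem hj) j hj
  rw [inv_mul_cancel, C.κ_one] at h
  exact U42Act.xzero h.symm

theorem κ_eq {a b : G} (ha : a ∈ C.J) (hb : b ∈ C.J) (e : C.κ a = C.κ b) : a = b ∨ a = b * C.z := by
  have hm : C.κ (b⁻¹ * a) = 0 := by rw [C.κ_mul _ (inv_mem hb) _ ha, C.κ_inv hb, e, Nat.xor_self]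
  rcases (C.κ_ker _ (mul_mem (inv_mem hb) ha)).mp hm with h | h
  · exact Or.inl (inv_mul_eq_one.mp h).symm
  · exact Or.inr (by rw [← h]; group)

theorem κ_mul_z {a : G} (ha : a ∈ C.J) : C.κ (a * C.z) = C.κ a := by
  rw [C.κ_mul a ha _ C.zJ, C.κ_z, Nat.xor_zero]

theorem κ_conjJ {a b : G} (ha : a ∈ C.J) (hb : b ∈ C.J) : C.κ (a * b * a⁻¹) = C.κ b := by
  rw [C.κ_mul _ (mul_mem ha hb) _ (inv_mem ha), C.κ_mul a ha b hb, C.κ_inv ha, Nat.xor_comm (C.κ a), Nat.xor_assoc,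
    Nat.xor_self, Nat.xor_zero]

theorem comm_or {a b : G} (ha : a ∈ C.J) (hb : b ∈ C.J) : Commute a b ∨ a * b = C.z * (b * a) := by
  rcases C.κ_eq (mul_mem (mul_mem ha hb) (inv_mem ha)) hb (C.κ_conjJ ha hb) with h | h
  · exact Or.inl (mul_inv_eq_iff_eq_mul.mp h)
  · refine Or.inr ?_
    rw [mul_inv_eq_iff_eq_mul.mp h, ← mul_assoc, (C.Jz b hb).eq]

theorem qsq {a b : G} (ha : a ∈ C.J) (hb : b ∈ C.J) :
    (a * b) * (a * b) = if qW C.e (C.κ a ^^^ C.κ b) = 1 then C.z else 1 := by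
  rw [C.sq _ (mul_mem ha hb), C.κ_mul a ha b hb]

theorem B_lt {u v : ℕ} (hu : u < 256) (hv : v < 256) : C.B u v < 2 :=
  Nat.xor_lt_two_pow (n := 1) (Nat.xor_lt_two_pow (n := 1) (qW_split C.e C.he _ (U42Act.xlt hu hv)).2.2.1
    (qW_split C.e C.he u hu).2.2.1) (qW_split C.e C.he v hv).2.2.1

theorem comm_iff {a b : G} (ha : a ∈ C.J) (hb : b ∈ C.J) : Commute a b ↔ C.B (C.κ a) (C.κ b) = 0 := by
  have la := (qW_split C.e C.he _ (C.κ_lt a ha)).2.2.1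
  have lb := (qW_split C.e C.he _ (C.κ_lt b hb)).2.2.1
  have lab := (qW_split C.e C.he _ (U42Act.xlt (C.κ_lt a ha) (C.κ_lt b hb))).2.2.1
  have sa := C.sq a ha
  have sb := C.sq b hb
  have sab := C.qsq ha hb
  simp only [B, bq]
  generalize qW C.e (C.κ a) = x at la sa ⊢
  generalize qW C.e (C.κ b) = y at lb sb ⊢
  generalize qW C.e (C.κ a ^^^ C.κ b) = w at lab sab ⊢
  rcases C.comm_or ha hb with h | h
  · refine iff_of_true h ?_
    rw [show a * b * (a * b) = (a * a) * (b * b) by rw [h.mul_mul_mul_comm], sa, sb] at sab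
    interval_cases x <;> interval_cases y <;> interval_cases w <;> simp_all [C.zz, C.z1, C.z1.symm]
  · refine iff_of_false (fun hc => C.z1 (mul_eq_right.mp (hc.eq ▸ h.symm : C.z * (b * a) = b * a))) ?_
    have e2 : a * b * (a * b) = C.z * ((a * a) * (b * b)) := by
      calc a * b * (a * b) = a * (b * a) * b := by group
        _ = a * (C.z * (a * b)) * b := by rw [h, ← mul_assoc C.z C.z, C.zz, one_mul]
        _ = a * C.z * a * (b * b) := by group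
        _ = _ := by rw [(C.Jz a ha).eq]; group
    rw [e2, sa, sb] at sab
    interval_cases x <;> interval_cases y <;> interval_cases w <;> simp_all [C.zz, C.z1, C.z1.symm]

theorem noncomm {a b : G} (ha : a ∈ C.J) (hb : b ∈ C.J) (h : C.B (C.κ a) (C.κ b) = 1) :
    a * b = C.z * (b * a) :=
  (C.comm_or ha hb).resolve_left fun c => by have := (C.comm_iff ha hb).mp c; omega

theorem noncomm' {a b : G} (ha : a ∈ C.J) (hb : b ∈ C.J) (h : ¬ Commute a b) : a * b = C.z * (b * a) :=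
  (C.comm_or ha hb).resolve_left h

theorem B_one {a b : G} (ha : a ∈ C.J) (hb : b ∈ C.J) (h : C.B (C.κ a) (C.κ b) = 1) : ¬ Commute a b := fun c => by
  have := (C.comm_iff ha hb).mp c; omega

/-- A non-commuting pair conjugates one into its product with the involution. -/
theorem conj_flip {a b : G} (ha : a ∈ C.J) (hb : b ∈ C.J) (h : ¬ Commute a b) : a * b * a⁻¹ = b * C.z := by
  rw [C.noncomm' ha hb h, ← mul_assoc C.z, (C.Jz b hb).symm.eq]; group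

theorem partner {a : G} (ha : a ∈ C.J) (h : C.κ a ≠ 0) : ∃ c ∈ C.J, ¬ Commute c a := by
  obtain ⟨i, hi, hB⟩ := (qW_split C.e C.he _ (C.κ_lt a ha)).2.2.2.2 h
  obtain ⟨c, hc, e⟩ := C.κ_surj _ (byte_one_lt i hi)
  exact ⟨c, hc, fun k => C.B_one ha hc (by rw [e]; exact hB) k.symm⟩

theorem B_comm (u v : ℕ) : C.B u v = C.B v u := by simp only [B, bq, Nat.xor_comm u v]; ac_rfl

theorem two_non {a b c : G} (ha : a ∈ C.J) (hb : b ∈ C.J) (hc : c ∈ C.J) (h1 : ¬ Commute a c) (h2 : ¬ Commute b c) :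
    Commute (a * b) c := by
  show a * b * c = c * (a * b)
  rw [mul_assoc, C.noncomm' hb hc h2, ← mul_assoc, ← mul_assoc, (C.Jz a ha).eq, mul_assoc C.z, C.noncomm' ha hc h1,
    ← mul_assoc C.z C.z, C.zz, one_mul, mul_assoc]

/-- Two orthogonal pairs meet a subgroup of index two in a pair. -/
theorem pair_sub (K : G → Prop) {a b c d : G} (ha : a ∈ C.J) (hb : b ∈ C.J) (hc : c ∈ C.J) (hd : d ∈ C.J)
    (ab : ¬ Commute a b) (cd : ¬ Commute c d) (ac : Commute a c) (ad : Commute a d) (bc : Commute b c)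
    (bd : Commute b d)
    (hK : ∀ u v, u ∈ Subgroup.closure ({a, b, c, d} : Set G) → v ∈ Subgroup.closure ({a, b, c, d} : Set G) →
      ¬ K u → ¬ K v → K (u * v)) :
    ∃ p ∈ Subgroup.closure ({a, b, c, d} : Set G), ∃ q ∈ Subgroup.closure ({a, b, c, d} : Set G),
      K p ∧ K q ∧ ¬ Commute p q := by
  set L := Subgroup.closure ({a, b, c, d} : Set G) with hL
  have mem : a ∈ L ∧ b ∈ L ∧ c ∈ L ∧ d ∈ L := ⟨Subgroup.subset_closure (by simp), Subgroup.subset_closure (by simp),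
    Subgroup.subset_closure (by simp), Subgroup.subset_closure (by simp)⟩
  obtain ⟨la, lb, lc, ld⟩ := mem
  by_cases hab : K a ∧ K b
  · exact ⟨a, la, b, lb, hab.1, hab.2, ab⟩
  by_cases hcd : K c ∧ K d
  · exact ⟨c, lc, d, ld, hcd.1, hcd.2, cd⟩
  have split : ∀ {x y : G}, x ∈ C.J → y ∈ C.J → x ∈ L → y ∈ L → ¬ (K x ∧ K y) → ¬ Commute x y →
      ∀ S : G → Prop, S x → S y → (∀ u v, S u → S v → S (u * v)) →
      ∃ x' y', x' ∈ C.J ∧ y' ∈ C.J ∧ x' ∈ L ∧ y' ∈ L ∧ ¬ K x' ∧ K y' ∧ ¬ Commute x' y' ∧ S x' ∧ S y' := by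
    intro x y jx jy lx ly h nc S sx sy smul
    by_cases kx : K x
    · exact ⟨y, x, jy, jx, ly, lx, fun ky => h ⟨kx, ky⟩, kx, fun e => nc e.symm, sy, sx⟩
    by_cases ky : K y
    · exact ⟨x, y, jx, jy, lx, ly, kx, ky, nc, sx, sy⟩
    refine ⟨x, x * y, jx, mul_mem jx jy, lx, mul_mem lx ly, kx, hK _ _ lx ly kx ky, fun e => nc ?_, sx, smul _ _ sx sy⟩
    exact mul_left_cancel (e.eq.trans (mul_assoc x y x))
  obtain ⟨a', b', ja, jb, la', lb', ka, kb, nab, ⟨sa1, sa2⟩, ⟨sb1, sb2⟩⟩ :=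
    split ha hb la lb hab ab (fun u => Commute u c ∧ Commute u d) ⟨ac, ad⟩ ⟨bc, bd⟩
      fun u v hu hv => ⟨hu.1.mul_left hv.1, hu.2.mul_left hv.2⟩
  obtain ⟨c', d', jc, jd, lc', ld', kc, kd, ncd, ⟨sc1, sc2⟩, sd⟩ :=
    split hc hd lc ld hcd cd (fun u => Commute a' u ∧ Commute b' u) ⟨sa1, sb1⟩ ⟨sa2, sb2⟩
      fun u v hu hv => ⟨hu.1.mul_right hv.1, hu.2.mul_right hv.2⟩
  refine ⟨a' * c', mul_mem la' lc', b', lb', hK _ _ la' lc' ka kc, kb, fun e => nab ?_⟩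
  have e2 := e.mul_left (sc2.symm.inv_left)
  rwa [mul_inv_cancel_right] at e2

theorem σ_one : C.σ 1 = 1 := (C.σ_ker 1 (Commute.one_left _)).mpr (one_mem _)

theorem σ_inv {h : G} (hh : Commute h C.z) : C.σ h⁻¹ = (C.σ h)⁻¹ := by
  refine eq_inv_of_mul_eq_one_left ?_
  rw [← C.σ_mul _ _ hh.inv_left hh, inv_mul_cancel, C.σ_one]

theorem σ_conj {h k : G} (hh : Commute h C.z) (hk : Commute k C.z) :
    C.σ (h * k * h⁻¹) = C.σ h * C.σ k * (C.σ h)⁻¹ := by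
  rw [C.σ_mul _ _ (hh.mul_left hk) hh.inv_left, C.σ_mul _ _ hh hk, C.σ_inv hh]

theorem pw_parts (x : XG) {v : ℕ} (hv : v < 256) : pw x v = pw x (v &&& 63) ^^^ (v &&& 192) := by
  obtain ⟨e1, -, l2, h2, -, -⟩ := parts v hv
  conv_lhs => rw [e1]
  rw [pw_add, (pw_form x _ l2).2.2 h2]

/-- Fixed on the six-space means fixed. -/
theorem inner_fix {h : G} (hh : Commute h C.z) (h0 : C.σ h ∈ X0) {j : G} (hj : j ∈ C.J)
    (hf : pw (C.σ h) (C.κ j &&& 63) = C.κ j &&& 63) : h * j * h⁻¹ = j ∨ h * j * h⁻¹ = j * C.z := by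
  refine C.κ_eq (C.conjJ h hh j hj) hj ?_
  rw [C.κ_inner h hh h0 j hj, pw_parts _ (C.κ_lt j hj), hf]
  exact (parts _ (C.κ_lt j hj)).1.symm

/-- Being a conjugate of the involution. -/
def Conj (x : G) : Prop := ∃ g, x = g * C.z * g⁻¹

theorem mem_frame {g h : G} : Commute h (g * C.z * g⁻¹) ↔ Commute (g⁻¹ * h * g) C.z := by
  constructor
  · intro e
    have := e.map (MulAut.conj g⁻¹).toMonoidHom
    simp only [MulEquiv.coe_toMonoidHom, MulAut.conj_apply, inv_inv] at this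
    rwa [show g⁻¹ * (g * C.z * g⁻¹) * g = C.z by group] at this
  · intro e
    have := e.map (MulAut.conj g).toMonoidHom
    simp only [MulEquiv.coe_toMonoidHom, MulAut.conj_apply] at this
    rwa [show g * (g⁻¹ * h * g) * g⁻¹ = h by group] at this

theorem frame_mul (g a b : G) : g⁻¹ * (a * b) * g = (g⁻¹ * a * g) * (g⁻¹ * b * g) := by group

end Setting

end CfsgLib.SixTwoType
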