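/-
The centraliser in the extraspecial group of a second involution, seen from that involution's frame.
-/
import Cfsg.Agent.Lib.SixTwoType.Setting

set_option autoImplicit false
set_option maxRecDepth 100000
set_option maxHeartbeats 1000000
set_option linter.unusedVariables false

namespace CfsgLib.SixTwoType

open U6Rec
open CfsgLib.U42Act (qW bq)

attribute [local irreducible] U6Rec.comp U6Rec.app psi

namespace Setting

variable {G : Type*} [Group G] (C : Setting G) (g : G)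

/-- The part of the extraspecial group centralising a conjugate. -/
def CJ : Subgroup G := C.J ⊓ Subgroup.centralizer {g * C.z * g⁻¹}

theorem mem_CJ {k : G} : k ∈ C.CJ g ↔ k ∈ C.J ∧ Commute k (g * C.z * g⁻¹) := by
  rw [CJ, Subgroup.mem_inf, Subgroup.mem_centralizer_singleton_iff]; exact Iff.rfl

theorem CJ_frame {k : G} (hk : k ∈ C.CJ g) : Commute (g⁻¹ * k * g) C.z :=
  C.mem_frame.mp ((C.mem_CJ g).mp hk).2

/-- Its image in the frame of the conjugate. -/
noncomputable def frameHom : ↥(C.CJ g) →* XG :=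
  MonoidHom.mk' (fun k => C.σ (g⁻¹ * k.1 * g)) fun a b => by
    rw [Subgroup.coe_mul, frame_mul, C.σ_mul _ _ (C.CJ_frame g a.2) (C.CJ_frame g b.2)]

/-- The image. -/
noncomputable def Im : Subgroup XG := (C.frameHom g).range

theorem mem_Im {p : XG} : p ∈ C.Im g ↔ ∃ k ∈ C.CJ g, C.σ (g⁻¹ * k * g) = p :=
  ⟨fun ⟨k, hk⟩ => ⟨k.1, k.2, hk⟩, fun ⟨k, hk, e⟩ => ⟨⟨k, hk⟩, e⟩⟩

theorem Im_mem {k : G} (hk : k ∈ C.CJ g) : C.σ (g⁻¹ * k * g) ∈ C.Im g := (C.mem_Im g).mpr ⟨k, hk, rfl⟩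

theorem frame_ker {k : G} (hk : k ∈ C.CJ g) : C.σ (g⁻¹ * k * g) = 1 ↔ g⁻¹ * k * g ∈ C.J :=
  C.σ_ker _ (C.CJ_frame g hk)

theorem J_card : Nat.card C.J = 512 := by
  classical
  choose s hs es using fun v : Fin 256 => C.κ_surj v.1 v.2
  let f : Fin 256 × Bool → C.J := fun p => ⟨s p.1 * (if p.2 then C.z else 1),
    mul_mem (hs _) (by split <;> [exact C.zJ; exact one_mem _])⟩
  have hκ : ∀ p, C.κ (f p).1 = p.1.1 := fun ⟨v, b⟩ => by
    cases b <;> simp [f, es, C.κ_mul_z (hs v)]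
  have hb : Function.Bijective f := by
    constructor
    · rintro ⟨v, b⟩ ⟨v', b'⟩ h
      have hv : v = v' := Fin.ext ((hκ (v, b)).symm.trans ((congrArg (fun j : C.J => C.κ j.1) h).trans (hκ (v', b'))))
      subst hv
      have := congrArg Subtype.val h
      simp only [f, mul_right_inj] at this
      cases b <;> cases b' <;> simp_all [C.z1, C.z1.symm]
    · rintro ⟨j, hj⟩
      rcases C.κ_eq hj (hs ⟨C.κ j, C.κ_lt j hj⟩) (es ⟨C.κ j, C.κ_lt j hj⟩).symm with h | h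
      · exact ⟨(⟨C.κ j, C.κ_lt j hj⟩, false), Subtype.ext (by simpa [f] using h.symm)⟩
      · exact ⟨(⟨C.κ j, C.κ_lt j hj⟩, true), Subtype.ext (by simpa [f] using h.symm)⟩
  rw [← Nat.card_congr (Equiv.ofBijective f hb), Nat.card_prod, Nat.card_eq_fintype_card, Nat.card_eq_fintype_card,
    Fintype.card_fin, Fintype.card_bool]

include C in
theorem isPGroup_J : IsPGroup 2 C.J := IsPGroup.of_card (n := 9) (by rw [C.J_card]; norm_num)

theorem Im_pGroup : IsPGroup 2 (C.Im g) := by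
  refine ((C.isPGroup_J.to_le (inf_le_left : C.CJ g ≤ C.J))).of_surjective (C.frameHom g).rangeRestrict ?_
  exact (C.frameHom g).rangeRestrict_surjective

theorem z_CJ (hx : Commute (g * C.z * g⁻¹) C.z) : C.z ∈ C.CJ g := (C.mem_CJ g).mpr ⟨C.zJ, hx.symm⟩

theorem frame_z (hx : Commute (g * C.z * g⁻¹) C.z) : Commute (g⁻¹ * C.z * g) C.z := C.CJ_frame g (C.z_CJ g hx)

/-- A commutator in the kernel is trivial when the involution is outside. -/
theorem ker_central (hx : Commute (g * C.z * g⁻¹) C.z) (hy : g⁻¹ * C.z * g ∉ C.J) {n : G} (hn : n ∈ C.CJ g)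
    (hnJ : g⁻¹ * n * g ∈ C.J) : ∀ k ∈ C.CJ g, Commute n k := by
  intro k hk
  rcases C.comm_or ((C.mem_CJ g).mp hn).1 ((C.mem_CJ g).mp hk).1 with h | h
  · exact h
  · refine absurd ?_ hy
    have := mul_mem (mul_mem hnJ (C.conjJ _ (C.CJ_frame g hk) _ (inv_mem hnJ))) (one_mem C.J)
    rwa [mul_one, show g⁻¹ * n * g * (g⁻¹ * k * g * (g⁻¹ * n * g)⁻¹ * (g⁻¹ * k * g)⁻¹) =
      g⁻¹ * (n * k * (k * n)⁻¹) * g by group, h, mul_inv_cancel_right] at this

/-- The displacement of an element by an involution. -/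
theorem disp {x : G} (hx : Commute x C.z) (x2 : x * x = 1) {j : G} (hj : j ∈ C.J) :
    x * j * x⁻¹ * j⁻¹ ∈ C.J ∧ x * j * x * j⁻¹ = x * j * x⁻¹ * j⁻¹ ∧
      j * x * j⁻¹ = x * (x * j * x * j⁻¹) ∧
      C.κ (x * j * x * j⁻¹) &&& 63 = (C.κ j &&& 63) ^^^ pw (C.σ x) (C.κ j &&& 63) := by
  have xi : x⁻¹ = x := inv_eq_of_mul_eq_one_right x2
  have hm := mul_mem (C.conjJ x hx j hj) (inv_mem hj)
  refine ⟨hm, by rw [xi], ?_, ?_⟩
  · simp only [← mul_assoc]; rw [x2, one_mul]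
  · have e : x * j * x * j⁻¹ = x * j * x⁻¹ * j⁻¹ := by rw [xi]
    rw [e, C.κ_mul _ (C.conjJ x hx j hj) _ (inv_mem hj), C.κ_inv hj, Nat.and_xor_distrib_right, C.κ_W x hx j hj,
      Nat.xor_comm]

end Setting

end CfsgLib.SixTwoType
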