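/-
No conjugate of the involution lies in the extraspecial group outside the centre.
-/
import Cfsg.Agent.Lib.SixTwoType.Frame

set_option autoImplicit false
set_option maxRecDepth 100000
set_option maxHeartbeats 1000000
set_option linter.unusedVariables false

namespace CfsgLib.SixTwoType

open U6Rec
open CfsgLib.U42Act (qW bq)

attribute [local irreducible] U6Rec.comp U6Rec.app psi

theorem X0_sq (p : XG) : p * p ∈ X0 := by
  by_cases h : p ∈ X0
  · exact X0.mul_mem h h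
  · exact X0_two h h

theorem zero_six : ∀ e < 2, qW e 0 = 0 ∧ qW 0 0 = 0 := by decide

namespace Setting

variable {G : Type*} [Group G] (C : Setting G) (g : G)

theorem J_comm_z {x : G} (hx : x ∈ C.J) : Commute x C.z := C.Jz x hx

theorem z_ne_x (hne : g * C.z * g⁻¹ ≠ C.z) : g⁻¹ * C.z * g ≠ C.z := by
  intro h
  exact hne (by conv_lhs => rw [← h]
                group)

theorem κx_ne (hxJ : g * C.z * g⁻¹ ∈ C.J) (hne : g * C.z * g⁻¹ ≠ C.z) : C.κ (g * C.z * g⁻¹) ≠ 0 := by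
  intro h
  rcases (C.κ_ker _ hxJ).mp h with h | h
  · exact C.z1 (by rw [show C.z = g⁻¹ * (g * C.z * g⁻¹) * g by group, h]; group)
  · exact hne h

theorem frame_J (hxJ : g * C.z * g⁻¹ ∈ C.J) (hne : g * C.z * g⁻¹ ≠ C.z) : g⁻¹ * C.z * g ∈ C.J := by
  classical
  by_contra hy
  set x := g * C.z * g⁻¹ with hx
  have hxc : Commute x C.z := C.Jz x hxJ
  have yz := C.frame_z g hxc
  have hu := C.κx_ne g hxJ hne
  obtain ⟨c, hc, ncx⟩ := C.partner hxJ hu
  have xm : x ∈ C.CJ g := (C.mem_CJ g).mpr ⟨hxJ, Commute.refl _⟩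
  have xfr : g⁻¹ * x * g = C.z := by rw [hx]; group
  -- the kernel
  have kerle : ∀ n ∈ C.CJ g, g⁻¹ * n * g ∈ C.J → n = 1 ∨ n = x := by
    intro n hn hnJ
    have hcen := C.ker_central g hxc hy hn hnJ
    have hnj := ((C.mem_CJ g).mp hn).1
    have key : C.κ n = 0 ∨ C.κ n = C.κ x := by
      have gen : ∀ m ∈ C.J, Commute m c → (∀ k ∈ C.CJ g, Commute m k) → C.κ m = 0 := by
        intro m hm hmc hk
        by_contra h0
        obtain ⟨d, hd, ndm⟩ := C.partner hm h0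
        by_cases hdx : Commute d x
        · exact ndm (hk d ((C.mem_CJ g).mpr ⟨hd, hdx⟩)).symm
        · have h1 := hk (d * c) ((C.mem_CJ g).mpr ⟨mul_mem hd hc, C.two_non hd hc hxJ hdx ncx⟩)
          refine ndm ?_
          have := h1.mul_right hmc.inv_right
          rwa [mul_inv_cancel_right, Commute.symm_iff] at this
      by_cases hnc : Commute n c
      · exact Or.inl (gen n hnj hnc hcen)
      · refine Or.inr ?_
        have := gen (n * x) (mul_mem hnj hxJ) (C.two_non hnj hxJ hc hnc fun e => ncx e.symm)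
          fun k hk => (hcen k hk).mul_left ((C.mem_CJ g).mp hk).2.symm
        rw [C.κ_mul n hnj x hxJ] at this
        exact U42Act.xzero this
    have bad : g⁻¹ * C.z * g ∉ C.J := hy
    rcases key with h | h
    · rcases (C.κ_ker n hnj).mp h with rfl | rfl
      · exact Or.inl rfl
      · exact absurd hnJ bad
    · rcases C.κ_eq hnj hxJ h with rfl | rfl
      · exact Or.inr rfl
      · refine absurd ?_ bad
        have := mul_mem (inv_mem C.zJ) hnJ
        rwa [frame_mul, xfr, inv_mul_cancel_left] at this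
  -- orders
  have hcJ : Nat.card ↥(C.CJ g) = 256 := by
    have h2 : ((C.CJ g).subgroupOf C.J).index = 2 := by
      refine Subgroup.index_eq_two_iff.mpr ⟨⟨c, hc⟩, fun b => ?_⟩
      simp only [Subgroup.mem_subgroupOf, Subgroup.coe_mul, C.mem_CJ]
      by_cases hb : Commute b.1 x
      · refine Or.inr ⟨⟨b.2, hb⟩, fun h => ncx ?_⟩
        have := hb.inv_left.mul_left h.2
        rwa [inv_mul_cancel_left] at this
      · exact Or.inl ⟨⟨mul_mem b.2 hc, C.two_non b.2 hc hxJ hb ncx⟩, fun h => hb h.2⟩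
    have := Subgroup.card_mul_index ((C.CJ g).subgroupOf C.J)
    rw [h2, C.J_card, Nat.card_congr (Subgroup.subgroupOfEquivOfLe (show C.CJ g ≤ C.J from inf_le_left)).toEquiv] at this
    omega
  have hker : Nat.card (C.frameHom g).ker = 2 := by
    have e : ((C.frameHom g).ker : Set ↥(C.CJ g)) = {1, ⟨x, xm⟩} := by
      ext k
      simp only [SetLike.mem_coe, MonoidHom.mem_ker, Set.mem_insert_iff, Set.mem_singleton_iff]
      constructor
      · intro h
        rcases kerle k.1 k.2 ((C.frame_ker g k.2).mp h) with e | e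
        · exact Or.inl (Subtype.ext e)
        · exact Or.inr (Subtype.ext e)
      · rintro (rfl | rfl)
        · exact map_one _
        · exact (C.frame_ker g xm).mpr (by rw [xfr]; exact C.zJ)
    rw [← SetLike.coe_sort_coe, e, Nat.card_coe_set_eq, Set.ncard_pair]
    intro h
    exact C.κx_ne g hxJ hne ((congrArg C.κ (congrArg Subtype.val h : (1 : G) = x)).symm.trans C.κ_one)
  have hP : Nat.card (C.Im g) = 128 := by
    have h1 := Subgroup.card_mul_index (C.frameHom g).ker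
    rw [Subgroup.index_ker, hker, hcJ] at h1
    show Nat.card (C.frameHom g).range = 128
    omega
  refine no_exp_four _ hP fun p hp => ?_
  obtain ⟨k, hk, rfl⟩ := (C.mem_Im g).mp hp
  have kf := C.CJ_frame g hk
  rw [← C.σ_mul _ _ kf kf, ← frame_mul, ← C.σ_mul _ _ (by rw [frame_mul]; exact kf.mul_left kf) (by
    rw [frame_mul]; exact kf.mul_left kf), ← frame_mul, C.sq k ((C.mem_CJ g).mp hk).1]
  split
  · rw [C.zz]; simp [C.σ_one]
  · simp [C.σ_one]

/-- The six-space part of the other coordinate is singular and nonzero. -/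
theorem frame_sing (hxJ : g * C.z * g⁻¹ ∈ C.J) (hne : g * C.z * g⁻¹ ≠ C.z) :
    C.κ (g⁻¹ * C.z * g) &&& 63 ≠ 0 ∧ qW 0 (C.κ (g⁻¹ * C.z * g) &&& 63) ≠ 1 := by
  classical
  by_contra hcon
  have hyJ := C.frame_J g hxJ hne
  set x := g * C.z * g⁻¹ with hx
  set y := g⁻¹ * C.z * g with hy
  set w := C.κ y &&& 63 with hw
  have hq : w = 0 ∨ qW 0 w = 1 := by tauto
  have hxc : Commute x C.z := C.Jz x hxJ
  have ly := C.κ_lt y hyJ
  have xfr : g⁻¹ * x * g = C.z := by rw [hx]; group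
  -- a pair of the centraliser with inner frame images
  let L : Set G := {k | k ∈ C.J ∧ Commute k x}
  have Lmul : ∀ {u v}, u ∈ L → v ∈ L → u * v ∈ L := fun hu hv => ⟨mul_mem hu.1 hv.1, hu.2.mul_left hv.2⟩
  have one_pair : ∀ (i j : ℕ), i < 256 → j < 256 → C.B i j = 1 → ∃ a b, a ∈ C.J ∧ b ∈ C.J ∧ ¬ Commute a b ∧
      C.κ a = i ∧ C.κ b = j := by
    intro i j hi hj h
    obtain ⟨a, ha, ea⟩ := C.κ_surj i hi
    obtain ⟨b, hb, eb⟩ := C.κ_surj j hj
    exact ⟨a, b, ha, hb, C.B_one ha hb (by rw [ea, eb]; exact h), ea, eb⟩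
  obtain ⟨P1, P2, P3, P4, O1, O2, O3⟩ := plane_bq C.e C.he
  obtain ⟨a1, b1, ja1, jb1, n1, ea1, eb1⟩ := one_pair 1 2 (by norm_num) (by norm_num) P1
  obtain ⟨a2, b2, ja2, jb2, n2, ea2, eb2⟩ := one_pair 4 8 (by norm_num) (by norm_num) P2
  obtain ⟨a3, b3, ja3, jb3, n3, ea3, eb3⟩ := one_pair 16 32 (by norm_num) (by norm_num) P3
  obtain ⟨a4, b4, ja4, jb4, n4, ea4, eb4⟩ := one_pair 64 128 (by norm_num) (by norm_num) P4
  have hco : ∀ {a b : G}, a ∈ C.J → b ∈ C.J → bq (qW C.e) (C.κ a) (C.κ b) = 0 → Commute a b :=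
    fun ha hb h => (C.comm_iff ha hb).mpr h
  have cx : ∀ u v : G, u ∈ C.J → v ∈ C.J → ¬ Commute u x → ¬ Commute v x → Commute (u * v) x :=
    fun u v hu hv h1 h2 => C.two_non hu hv hxJ h1 h2
  have cls : ∀ {a b c d : G}, a ∈ C.J → b ∈ C.J → c ∈ C.J → d ∈ C.J →
      ∀ u ∈ Subgroup.closure ({a, b, c, d} : Set G), u ∈ C.J := fun {a b c d} ha hb hc hd u hu =>
    (Subgroup.closure_le _).mpr (by rintro v (rfl | rfl | rfl | rfl) <;> assumption) hu
  obtain ⟨p1, hp1, q1, hq1, kp1, kq1, nc1⟩ := C.pair_sub (fun u => Commute u x) ja1 jb1 ja2 jb2 n1 n2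
    (hco ja1 ja2 (by rw [ea1, ea2]; exact O1 1 (by simp) 4 (by simp)))
    (hco ja1 jb2 (by rw [ea1, eb2]; exact O1 1 (by simp) 8 (by simp)))
    (hco jb1 ja2 (by rw [eb1, ea2]; exact O1 2 (by simp) 4 (by simp)))
    (hco jb1 jb2 (by rw [eb1, eb2]; exact O1 2 (by simp) 8 (by simp)))
    (fun u v hu hv => cx u v (cls ja1 jb1 ja2 jb2 u hu) (cls ja1 jb1 ja2 jb2 v hv))
  obtain ⟨p2, hp2, q2, hq2, kp2, kq2, nc2⟩ := C.pair_sub (fun u => Commute u x) ja3 jb3 ja4 jb4 n3 n4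
    (hco ja3 ja4 (by rw [ea3, ea4]; exact O3 16 (by simp) 64 (by simp)))
    (hco ja3 jb4 (by rw [ea3, eb4]; exact O3 16 (by simp) 128 (by simp)))
    (hco jb3 ja4 (by rw [eb3, ea4]; exact O3 32 (by simp) 64 (by simp)))
    (hco jb3 jb4 (by rw [eb3, eb4]; exact O3 32 (by simp) 128 (by simp)))
    (fun u v hu hv => cx u v (cls ja3 jb3 ja4 jb4 u hu) (cls ja3 jb3 ja4 jb4 v hv))
  have across : ∀ u ∈ Subgroup.closure ({a1, b1, a2, b2} : Set G), ∀ v ∈ Subgroup.closure ({a3, b3, a4, b4} : Set G),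
      Commute u v := by
    intro u hu v hv
    have h1 : Subgroup.closure ({a1, b1, a2, b2} : Set G) ≤ Subgroup.centralizer {a3, b3, a4, b4} := by
      refine (Subgroup.closure_le _).mpr ?_
      intro r hr
      refine Subgroup.mem_centralizer_iff.mpr fun t ht => ?_
      refine (hco (cls ja1 jb1 ja2 jb2 r (Subgroup.subset_closure hr))
        (cls ja3 jb3 ja4 jb4 t (Subgroup.subset_closure ht)) ?_).eq.symm
      rcases hr with rfl | rfl | rfl | rfl <;> rcases ht with rfl | rfl | rfl | rfl <;>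
        simp only [ea1, eb1, ea2, eb2, ea3, eb3, ea4, eb4] <;>
        first
          | (refine O1 _ ?_ _ ?_ <;> decide)
          | (refine O2 _ ?_ _ ?_ <;> decide)
    have h2 : Subgroup.closure ({a3, b3, a4, b4} : Set G) ≤ Subgroup.centralizer {u} :=
      (Subgroup.closure_le _).mpr fun t ht => Subgroup.mem_centralizer_singleton_iff.mpr
        (Subgroup.mem_centralizer_iff.mp (h1 hu) t ht)
    exact (Subgroup.mem_centralizer_singleton_iff.mp (h2 hv)).symm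
  have Lp1 : p1 ∈ L := ⟨cls ja1 jb1 ja2 jb2 _ hp1, kp1⟩
  have Lq1 : q1 ∈ L := ⟨cls ja1 jb1 ja2 jb2 _ hq1, kq1⟩
  have Lp2 : p2 ∈ L := ⟨cls ja3 jb3 ja4 jb4 _ hp2, kp2⟩
  have Lq2 : q2 ∈ L := ⟨cls ja3 jb3 ja4 jb4 _ hq2, kq2⟩
  have Lcj : ∀ {u}, u ∈ L → u ∈ C.CJ g := fun hu => (C.mem_CJ g).mpr hu
  have inL : ∀ u ∈ Subgroup.closure ({p1, q1, p2, q2} : Set G), u ∈ C.CJ g := fun u hu =>
    (Subgroup.closure_le _).mpr (by rintro v (rfl | rfl | rfl | rfl) <;> exact Lcj ‹_›) hu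
  obtain ⟨a, ha, b, hb, ka, kb, nab⟩ := C.pair_sub (fun u => C.σ (g⁻¹ * u * g) ∈ X0) Lp1.1 Lq1.1 Lp2.1 Lq2.1 nc1 nc2
    (across _ hp1 _ hp2) (across _ hp1 _ hq2) (across _ hq1 _ hp2) (across _ hq1 _ hq2)
    (fun u v hu hv h1 h2 => by
      show C.σ (g⁻¹ * (u * v) * g) ∈ X0
      rw [frame_mul, C.σ_mul _ _ (C.CJ_frame g (inL u hu)) (C.CJ_frame g (inL v hv))]
      exact X0_two h1 h2)
  -- the inner image is nontrivial
  set P := C.Im g ⊓ X0 with hP
  have hPne : P ≠ ⊥ := by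
    intro hbot
    have aj := C.frame_ker g (inL a ha)
    have bj := C.frame_ker g (inL b hb)
    have a1' : C.σ (g⁻¹ * a * g) = 1 := Subgroup.mem_bot.mp (hbot ▸ ⟨C.Im_mem g (inL a ha), ka⟩)
    have b1' : C.σ (g⁻¹ * b * g) = 1 := Subgroup.mem_bot.mp (hbot ▸ ⟨C.Im_mem g (inL b hb), kb⟩)
    have e := C.noncomm' ((C.mem_CJ g).mp (inL a ha)).1 ((C.mem_CJ g).mp (inL b hb)).1 nab
    rcases C.comm_or (aj.mp a1') (bj.mp b1') with h | h
    · refine nab ?_
      have := h.map (MulAut.conj g).toMonoidHom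
      simp only [MulEquiv.coe_toMonoidHom, MulAut.conj_apply] at this
      rwa [show g * (g⁻¹ * a * g) * g⁻¹ = a by group, show g * (g⁻¹ * b * g) * g⁻¹ = b by group] at this
    · rw [← frame_mul, ← frame_mul, e, frame_mul] at h
      exact C.z_ne_x g hne (mul_right_cancel h)
  haveI : Fact (Nat.Prime 2) := ⟨Nat.prime_two⟩
  have hPp : IsPGroup 2 P := (C.Im_pGroup g).to_le inf_le_left
  haveI : Nontrivial P := (Subgroup.nontrivial_iff_ne_bot P).mpr hPne
  haveI := hPp.center_nontrivial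
  obtain ⟨⟨c0, hc0⟩, ho⟩ : ∃ c : Subgroup.center P, orderOf c = 2 := by
    obtain ⟨n, hn, e⟩ := (hPp.to_subgroup (Subgroup.center P)).nontrivial_iff_card.mp inferInstance
    exact exists_prime_orderOf_dvd_card' 2 (e ▸ dvd_pow_self 2 (by omega))
  set s0 : XG := c0.1 with hs0
  have ho' : orderOf s0 = 2 := by
    rw [hs0, Subgroup.orderOf_coe]; rw [← Subgroup.orderOf_coe ⟨c0, hc0⟩] at ho; exact ho
  have s2 : s0 * s0 = 1 := by rw [← pow_two, ← ho', pow_orderOf_eq_one]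
  have s1 : s0 ≠ 1 := fun h => by rw [h, orderOf_one] at ho'; exact absurd ho' (by norm_num)
  obtain ⟨k, hk, ek⟩ := (C.mem_Im g).mp c0.2.1
  have hfix : pw s0 w = w := by
    have kz : Commute k C.z := C.Jz k ((C.mem_CJ g).mp hk).1
    have hky : (g⁻¹ * k * g) * y * (g⁻¹ * k * g)⁻¹ = y := by
      rw [hy, show g⁻¹ * k * g * (g⁻¹ * C.z * g) * (g⁻¹ * k * g)⁻¹ = g⁻¹ * (k * C.z * k⁻¹) * g by group, kz.eq,
        mul_inv_cancel_right]
    have := C.κ_W _ (C.CJ_frame g hk) y hyJ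
    rw [hky, ek] at this
    exact this.symm
  obtain ⟨s, hs, hsw, hnc⟩ := fix_conj c0.2.2 s2 s1 (parts _ ly).2.1 hq hfix
  apply hnc
  obtain ⟨h, hh, eh⟩ := C.σ_surj s hs
  have hyκ : C.κ y ≠ 0 := by
    intro e
    rcases (C.κ_ker y hyJ).mp e with e | e
    · exact C.z1 (by rw [show C.z = g * y * g⁻¹ by rw [hy]; group, e]; group)
    · exact C.z_ne_x g hne e
  obtain ⟨h', hh', eh', hy'⟩ : ∃ h', Commute h' C.z ∧ C.σ h' = s ∧ h' * y * h'⁻¹ = y := by
    rcases C.inner_fix hh (eh ▸ hs) hyJ (by rw [eh]; exact hsw) with e | e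
    · exact ⟨h, hh, eh, e⟩
    · obtain ⟨c, hc, hcy⟩ := C.partner hyJ hyκ
      refine ⟨c * h, (C.Jz c hc).mul_left hh, by rw [C.σ_mul _ _ (C.Jz c hc) hh, (C.σ_ker c (C.Jz c hc)).mpr hc,
        one_mul, eh], ?_⟩
      calc c * h * y * (c * h)⁻¹ = c * (h * y * h⁻¹) * c⁻¹ := by group
        _ = (c * y * c⁻¹) * (c * C.z * c⁻¹) := by rw [e]; group
        _ = y := by rw [C.conj_flip hc hyJ hcy, (C.Jz c hc).eq, mul_inv_cancel_right, mul_assoc, C.zz, mul_one]
  set H := g * h' * g⁻¹ with hH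
  have Hz : H * C.z * H⁻¹ = C.z := by
    rw [hH, show g * h' * g⁻¹ * C.z * (g * h' * g⁻¹)⁻¹ = g * (h' * y * h'⁻¹) * g⁻¹ by rw [hy]; group, hy', hy]; group
  have Hx : H * x * H⁻¹ = x := by
    rw [hH, hx, show g * h' * g⁻¹ * (g * C.z * g⁻¹) * (g * h' * g⁻¹)⁻¹ = g * (h' * C.z * h'⁻¹) * g⁻¹ by group,
      hh'.eq, mul_inv_cancel_right]
  have Hzc : Commute H C.z := mul_inv_eq_iff_eq_mul.mp Hz
  have hk' : H * k * H⁻¹ ∈ C.CJ g := by
    refine (C.mem_CJ g).mpr ⟨C.conjJ H Hzc k ((C.mem_CJ g).mp hk).1, ?_⟩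
    have := ((C.mem_CJ g).mp hk).2.map (MulAut.conj H).toMonoidHom
    simp only [MulEquiv.coe_toMonoidHom, MulAut.conj_apply] at this
    rwa [← hx, Hx] at this
  have hm : s * s0 * s⁻¹ ∈ P := by
    refine ⟨?_, X0.mul_mem (X0.mul_mem hs c0.2.2) (X0.inv_mem hs)⟩
    refine (C.mem_Im g).mpr ⟨_, hk', ?_⟩
    rw [show g⁻¹ * (H * k * H⁻¹) * g = h' * (g⁻¹ * k * g) * h'⁻¹ by rw [hH]; group,
      C.σ_conj hh' (C.CJ_frame g hk), eh', ek]
  exact congrArg Subtype.val (Subgroup.mem_center_iff.mp hc0 ⟨_, hm⟩)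

end Setting

end CfsgLib.SixTwoType
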