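/-
The lift of the stabiliser into the frame of a conjugate in the extraspecial group, and the second coordinate plane.
-/
import Cfsg.Agent.Lib.SixTwoType.CaseJ

set_option autoImplicit false
set_option maxRecDepth 100000
set_option maxHeartbeats 1000000
set_option linter.unusedVariables false

namespace CfsgLib.SixTwoType

open U6Rec
open CfsgLib.U42Act (qW bq)

attribute [local irreducible] U6Rec.comp U6Rec.app psi

theorem swap_three {u : XG} (h3 : u ^ 3 = 1) {a w : ℕ} (ha : a < 256) (hw : w < 256) (w0 : w ≠ 0) (fw : pw u w = w)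
    (h : pw u a = a ∨ pw u a = a ^^^ w) : pw u a = a := by
  refine h.resolve_right fun e => w0 ?_
  have e2 : pw u (pw u a) = a := by rw [e, pw_add, e, fw, Nat.xor_assoc, Nat.xor_self, Nat.xor_zero]
  have e3 : pw (u ^ 3) a = a ^^^ w := by rw [pow_succ', pow_two, pw_mul, pw_mul, e2, e]
  rw [h3, pw_one ha] at e3
  have := congrArg (a ^^^ ·) e3
  simp only [Nat.xor_self, U42Act.xcancel] at this
  exact this.symm

theorem swap_five {u : XG} (h5 : u ^ 5 = 1) {a w : ℕ} (ha : a < 256) (hw : w < 256) (w0 : w ≠ 0) (fw : pw u w = w)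
    (h : pw u a = a ∨ pw u a = a ^^^ w) : pw u a = a := by
  refine h.resolve_right fun e => w0 ?_
  have e2 : pw u (pw u a) = a := by rw [e, pw_add, e, fw, Nat.xor_assoc, Nat.xor_self, Nat.xor_zero]
  have e5 : pw (u ^ 5) a = a ^^^ w := by
    rw [show u ^ 5 = u * (u * (u * (u * u))) by simp [pow_succ, mul_assoc], pw_mul, pw_mul, pw_mul, pw_mul, e2, e2, e]
  rw [h5, pw_one ha] at e5
  have := congrArg (a ^^^ ·) e5
  simp only [Nat.xor_self, U42Act.xcancel] at this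
  exact this.symm

namespace Setting

variable {G : Type*} [Group G] (C : Setting G) (g : G)

theorem κy_ne (hxJ : g * C.z * g⁻¹ ∈ C.J) (hne : g * C.z * g⁻¹ ≠ C.z) : C.κ (g⁻¹ * C.z * g) ≠ 0 := by
  intro h
  exact (C.frame_sing g hxJ hne).1 (by rw [h]; rfl)

/-- A lift centralising both involutions. -/
theorem lift_both (hxJ : g * C.z * g⁻¹ ∈ C.J) (hne : g * C.z * g⁻¹ ≠ C.z) {s : XG} (hs : s ∈ X0)
    (hsw : pw s (C.κ (g⁻¹ * C.z * g) &&& 63) = C.κ (g⁻¹ * C.z * g) &&& 63) :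
    ∃ h, Commute h C.z ∧ C.σ h = s ∧ Commute (g * h * g⁻¹) C.z ∧ Commute (g * h * g⁻¹) (g * C.z * g⁻¹) := by
  have hyJ := C.frame_J g hxJ hne
  obtain ⟨h, hh, eh⟩ := C.σ_surj s hs
  obtain ⟨h', hh', eh', hy'⟩ : ∃ h', Commute h' C.z ∧ C.σ h' = s ∧
      h' * (g⁻¹ * C.z * g) * h'⁻¹ = g⁻¹ * C.z * g := by
    rcases C.inner_fix hh (eh ▸ hs) hyJ (by rw [eh]; exact hsw) with e | e
    · exact ⟨h, hh, eh, e⟩
    · obtain ⟨c, hc, hcy⟩ := C.partner hyJ (C.κy_ne g hxJ hne)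
      refine ⟨c * h, (C.Jz c hc).mul_left hh, by rw [C.σ_mul _ _ (C.Jz c hc) hh, (C.σ_ker c (C.Jz c hc)).mpr hc,
        one_mul, eh], ?_⟩
      calc c * h * (g⁻¹ * C.z * g) * (c * h)⁻¹ = c * (h * (g⁻¹ * C.z * g) * h⁻¹) * c⁻¹ := by group
        _ = (c * (g⁻¹ * C.z * g) * c⁻¹) * (c * C.z * c⁻¹) := by rw [e]; group
        _ = g⁻¹ * C.z * g := by
          rw [C.conj_flip hc hyJ hcy, (C.Jz c hc).eq, mul_inv_cancel_right, mul_assoc, C.zz, mul_one]
  refine ⟨h', hh', eh', ?_, ?_⟩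
  · have := (mul_inv_eq_iff_eq_mul.mp hy' : h' * (g⁻¹ * C.z * g) = g⁻¹ * C.z * g * h')
    have := (show Commute h' (g⁻¹ * C.z * g) from this).map (MulAut.conj g).toMonoidHom
    simpa [MulAut.conj_apply, mul_assoc] using this
  · have := hh'.map (MulAut.conj g).toMonoidHom
    simpa [MulAut.conj_apply, mul_assoc] using this

/-- The square of such a lift moves the second plane by the centre only. -/
theorem sq_plane {H r : G} (hH : Commute H C.z) (hr : r ∈ C.J) (hR : C.κ r &&& 63 = 0) :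
    (H * H) * r * (H * H)⁻¹ = r ∨ (H * H) * r * (H * H)⁻¹ = r * C.z := by
  refine C.inner_fix (hH.mul_left hH) ?_ hr (by rw [hR, pw_zero])
  rw [C.σ_mul H H hH hH]
  exact X0_sq _

/-- The second plane lies in the other extraspecial group. -/
theorem R_in (hxJ : g * C.z * g⁻¹ ∈ C.J) (hne : g * C.z * g⁻¹ ≠ C.z) {r : G} (hr : r ∈ C.J)
    (hR : C.κ r &&& 63 = 0) (hrx : Commute r (g * C.z * g⁻¹)) : g⁻¹ * r * g ∈ C.J := by
  have hyJ := C.frame_J g hxJ hne
  obtain ⟨w0, wq⟩ := C.frame_sing g hxJ hne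
  set y := g⁻¹ * C.z * g with hy
  set w := C.κ y &&& 63 with hw
  obtain ⟨s, hs, t, ht, fs, ft, s3, t5, -, cz⟩ := stab_odd (parts _ (C.κ_lt y hyJ)).2.1 w0 wq
  have hrc : r ∈ C.CJ g := (C.mem_CJ g).mpr ⟨hr, hrx⟩
  have rz := C.CJ_frame g hrc
  set ρ := C.σ (g⁻¹ * r * g) with hρ
  have yfix : pw ρ w = w := by
    have := C.κ_W _ rz y hyJ
    rw [show g⁻¹ * r * g * y * (g⁻¹ * r * g)⁻¹ = g⁻¹ * (r * C.z * r⁻¹) * g by rw [hy]; group, (C.Jz r hr).eq,
      mul_inv_cancel_right] at this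
    exact this.symm
  have key : ∀ u ∈ X0, pw u w = w → Commute ρ (u * u) := by
    intro u hu fu
    obtain ⟨h, hh, eh, hH, -⟩ := C.lift_both g hxJ hne hu fu
    have hhh := hh.mul_left hh
    have e : C.σ (h * h * (g⁻¹ * r * g) * (h * h)⁻¹) = ρ := by
      have c1 : h * h * (g⁻¹ * r * g) * (h * h)⁻¹ =
          g⁻¹ * ((g * h * g⁻¹ * (g * h * g⁻¹)) * r * (g * h * g⁻¹ * (g * h * g⁻¹))⁻¹) * g := by group
      rw [c1]
      rcases C.sq_plane hH hr hR with e | e <;> rw [e]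
      rw [frame_mul, C.σ_mul _ _ rz (C.Jz y hyJ), (C.σ_ker y (C.Jz y hyJ)).mpr hyJ, mul_one]
    rw [C.σ_conj hhh rz, C.σ_mul h h hh hh, eh] at e
    exact (mul_inv_eq_iff_eq_mul.mp e).symm
  have cs : Commute ρ s := by
    have := (key s hs fs).mul_right (key s hs fs)
    rwa [show s * s * (s * s) = s by rw [show s * s * (s * s) = s ^ 3 * s by simp [pow_succ, mul_assoc], s3, one_mul]]
      at this
  have ct : Commute ρ t := by
    have := (key t ht ft).mul_right ((key t ht ft).mul_right (key t ht ft))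
    rwa [show t * t * (t * t * (t * t)) = t by
      rw [show t * t * (t * t * (t * t)) = t ^ 5 * t by simp [pow_succ, mul_assoc], t5, one_mul]] at this
  exact (C.σ_ker _ rz).mp (cz ρ yfix cs ct)

/-- The six-space part in the other frame of an element of the second plane. -/
theorem R_part (hxJ : g * C.z * g⁻¹ ∈ C.J) (hne : g * C.z * g⁻¹ ≠ C.z) {r : G} (hr : r ∈ C.J)
    (hR : C.κ r &&& 63 = 0) (hrJ : g⁻¹ * r * g ∈ C.J) :
    C.κ (g⁻¹ * r * g) &&& 63 = 0 ∨ C.κ (g⁻¹ * r * g) &&& 63 = C.κ (g⁻¹ * C.z * g) &&& 63 := by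
  have hyJ := C.frame_J g hxJ hne
  obtain ⟨w0, wq⟩ := C.frame_sing g hxJ hne
  set y := g⁻¹ * C.z * g with hy
  set w := C.κ y &&& 63 with hw
  set r' := g⁻¹ * r * g with hr'
  set a := C.κ r' &&& 63 with ha
  obtain ⟨s, hs, t, ht, fs, ft, s3, t5, fx, -⟩ := stab_odd (parts _ (C.κ_lt y hyJ)).2.1 w0 wq
  have la : a < 64 := (parts _ (C.κ_lt r' hrJ)).2.1
  have lw : w < 64 := (parts _ (C.κ_lt y hyJ)).2.1
  have key : ∀ u ∈ X0, pw u w = w → pw (u * u) a = a ∨ pw (u * u) a = a ^^^ w := by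
    intro u hu fu
    obtain ⟨h, hh, eh, hH, -⟩ := C.lift_both g hxJ hne hu fu
    have hhh := hh.mul_left hh
    have e := C.κ_W _ hhh r' hrJ
    rw [C.σ_mul h h hh hh, eh, ← ha] at e
    rw [← e]
    have c1 : h * h * r' * (h * h)⁻¹ =
        g⁻¹ * ((g * h * g⁻¹ * (g * h * g⁻¹)) * r * (g * h * g⁻¹ * (g * h * g⁻¹))⁻¹) * g := by rw [hr']; group
    rw [c1]
    rcases C.sq_plane hH hr hR with e' | e' <;> rw [e']
    · exact Or.inl ha.symm
    · refine Or.inr ?_
      rw [frame_mul, ← hr', C.κ_mul r' hrJ _ hyJ, Nat.and_xor_distrib_right, ← ha, ← hw]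
  have fuu : ∀ {u : XG}, pw u w = w → pw (u * u) w = w := fun h => by rw [pw_mul, h, h]
  have s6 : (s * s) ^ 3 = 1 := by rw [show (s * s) ^ 3 = (s ^ 3) ^ 2 by simp [pow_succ, mul_assoc], s3, one_pow]
  have t10 : (t * t) ^ 5 = 1 := by rw [show (t * t) ^ 5 = (t ^ 5) ^ 2 by simp [pow_succ, mul_assoc], t5, one_pow]
  have es := swap_three s6 (by omega) (by omega) w0 (fuu fs) (key s hs fs)
  have et := swap_five t10 (by omega) (by omega) w0 (fuu ft) (key t ht ft)
  refine fx a la ?_ ?_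
  · have e : s = (s * s) * (s * s) := by
      rw [show s * s * (s * s) = s ^ 3 * s by simp [pow_succ, mul_assoc], s3, one_mul]
    rw [e, pw_mul, es, es]
  · have e : t = (t * t) * ((t * t) * (t * t)) := by
      rw [show t * t * (t * t * (t * t)) = t ^ 5 * t by simp [pow_succ, mul_assoc], t5, one_mul]
    rw [e, pw_mul (t * t) (t * t * (t * t)), pw_mul (t * t) (t * t), et, et, et]

end Setting

end CfsgLib.SixTwoType
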