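/-
The extraspecial group contains no conjugate of the involution besides itself.
-/
import Cfsg.Agent.Lib.SixTwoType.SingCase
import Mathlib.GroupTheory.Nilpotent

set_option autoImplicit false
set_option maxRecDepth 100000
set_option maxHeartbeats 1000000
set_option linter.unusedVariables false

namespace CfsgLib.SixTwoType

open U6Rec
open CfsgLib.U42Act (qW bq)

attribute [local irreducible] U6Rec.comp U6Rec.app psi

theorem transit {w v : ℕ} (hw : w < 64) (hv : v < 64) (w0 : w ≠ 0) (v0 : v ≠ 0) (qw : qW 0 w ≠ 1) (qv : qW 0 v ≠ 1) :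
    ∃ r ∈ X0, pw r v = w := by
  have key : ∀ u < 64, u ≠ 0 → qW 0 u ≠ 1 → ∃ r ∈ X0, pw r 5 = u := by
    intro u hu u0 qu
    have h := List.all_eq_true.mp sing_lv.1 u (List.mem_range.mpr hu)
    rw [Bool.or_eq_true, Bool.or_eq_true, Nat.beq_eq, Nat.beq_eq] at h
    obtain ⟨l, hl, e⟩ := List.any_eq_true.mp (h.resolve_left (by rintro (h | h); exacts [u0 h, qu h]))
    rw [Nat.beq_eq] at e
    have k := List.all_eq_true.mp sing_lv.2 l hl
    rw [Bool.and_eq_true, Bool.and_eq_true, Nat.blt_eq, Nat.blt_eq, Nat.beq_eq] at k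
    exact ⟨⟨lineEl l, Or.inl (inU_elt k.1.1 k.1.2)⟩, inU_elt k.1.1 k.1.2, k.2.trans e⟩
  obtain ⟨r, hr, er⟩ := key w hw w0 qw
  obtain ⟨s, hs, es⟩ := key v hv v0 qv
  exact ⟨r * s⁻¹, X0.mul_mem hr (X0.inv_mem hs), by rw [pw_mul, ← es, pw_inv_self s (by norm_num), er]⟩

/-- A singular nonzero vector of the six-space. -/
def SingW : Type := {v : ℕ // v ∈ lvL.toFinset}

instance : Finite SingW := Finite.of_fintype {v : ℕ // v ∈ lvL.toFinset}

theorem card_singW : Nat.card SingW = 27 := by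
  show Nat.card {v : ℕ // v ∈ lvL.toFinset} = 27
  rw [Nat.card_eq_fintype_card, Fintype.card_coe]
  decide

theorem singW_iff : ∀ v < 64, v ∈ lvL ↔ v ≠ 0 ∧ qW 0 v ≠ 1 := by decide +kernel

theorem singW_lt : ∀ v ∈ lvL, v < 64 := by decide

theorem pw_singW (x : XG) (v : SingW) : pw x v.1 ∈ lvL.toFinset := by
  have hm := List.mem_toFinset.mp v.2
  have hl := singW_lt _ hm
  obtain ⟨h0, h1⟩ := (singW_iff _ hl).mp hm
  rw [List.mem_toFinset, singW_iff _ (pw_six x hl), pw_qW x (by norm_num) (by omega)]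
  exact ⟨fun e => h0 (pw_cancel x (by omega) (by norm_num) (e.trans (pw_zero x).symm)), h1⟩

namespace Setting

variable {G : Type*} [Group G] (C : Setting G)

/-- A two-group of the centraliser fixes a singular vector. -/
theorem two_fix [Finite G] (T : Subgroup G) (hT : IsPGroup 2 T) (hz : ∀ t ∈ T, Commute t C.z) :
    ∃ v < 64, v ≠ 0 ∧ qW 0 v ≠ 1 ∧ ∀ t ∈ T, pw (C.σ t) v = v := by
  haveI : Fact (Nat.Prime 2) := ⟨Nat.prime_two⟩
  letI : MulAction T SingW :=
    { smul := fun t v => ⟨pw (C.σ t.1) v.1, pw_singW _ v⟩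
      one_smul := fun v => Subtype.ext (by
        show pw (C.σ 1) v.1 = v.1
        rw [C.σ_one, pw_one]; have := singW_lt _ (List.mem_toFinset.mp v.2); omega)
      mul_smul := fun a b v => Subtype.ext (by
        show pw (C.σ (a.1 * b.1)) v.1 = pw (C.σ a.1) (pw (C.σ b.1) v.1)
        rw [C.σ_mul _ _ (hz _ a.2) (hz _ b.2), pw_mul]) }
  obtain ⟨v, hv⟩ := hT.nonempty_fixed_point_of_prime_not_dvd_card SingW (by rw [card_singW]; norm_num)
  have hm := List.mem_toFinset.mp v.2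
  obtain ⟨h0, h1⟩ := (singW_iff _ (singW_lt _ hm)).mp hm
  exact ⟨v.1, singW_lt _ hm, h0, h1, fun t ht => congrArg Subtype.val (hv ⟨t, ht⟩)⟩

/-- No conjugate of the involution lies in the extraspecial group but itself. -/
theorem no_J [Finite G] (g : G) (hxJ : g * C.z * g⁻¹ ∈ C.J) : g * C.z * g⁻¹ = C.z := by
  classical
  by_contra hne
  haveI : Fact (Nat.Prime 2) := ⟨Nat.prime_two⟩
  have hyJ := C.frame_J g hxJ hne
  obtain ⟨yw0, ywq⟩ := C.frame_sing g hxJ hne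
  have inv_data : ∀ f : G, f * C.z * f⁻¹ ∈ C.J → f * C.z * f⁻¹ ≠ C.z →
      C.κ (f * C.z * f⁻¹) &&& 63 ≠ 0 ∧ qW 0 (C.κ (f * C.z * f⁻¹) &&& 63) ≠ 1 := by
    intro f h1 h2
    have h := C.frame_sing f⁻¹ (by rw [inv_inv]; exact C.frame_J f h1 h2)
      (by rw [inv_inv]; exact C.z_ne_x f h2)
    rwa [inv_inv] at h
  obtain ⟨w0, wq⟩ := inv_data g hxJ hne
  set x := g * C.z * g⁻¹ with hx
  set y := g⁻¹ * C.z * g with hy
  have lx := C.κ_lt x hxJ
  obtain ⟨px, lw, lu, hu63, hlow, hhigh⟩ := parts _ lx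
  set w := C.κ x &&& 63 with hw
  set u := C.κ x &&& 192 with hu
  have xfr : g⁻¹ * x * g = C.z := by rw [hx]; group
  have x2 : x * x = 1 := by
    rw [hx, show g * C.z * g⁻¹ * (g * C.z * g⁻¹) = g * (C.z * C.z) * g⁻¹ by group, C.zz]; group
  obtain ⟨qs, bu, lq, -, -⟩ := qW_split C.e C.he _ lx
  have qx : qW C.e (C.κ x) = 0 := by
    by_contra h
    have := C.sq x hxJ
    rw [if_pos (by omega), x2] at this
    exact C.z1 this.symm
  have qu : qW C.e u = 0 := by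
    have hq0 : qW 0 w < 2 := by
      obtain ⟨-, -, h, hle, -⟩ := qW_split 0 (by norm_num) w (by omega)
      exact h
    have : qW 0 w = 0 := by omega
    rw [qx, this, Nat.zero_xor] at qs
    exact qs.symm
  by_cases u0 : u = 0
  · have hxl : C.κ x < 64 := by rw [px, u0, Nat.xor_zero]; exact lw
    obtain ⟨a, ha, ea⟩ := C.κ_surj 64 (by norm_num)
    obtain ⟨b, hb, eb⟩ := C.κ_surj 128 (by norm_num)
    obtain ⟨pa, pb⟩ := plane_low C.e C.he _ hxl
    have ax : Commute a x := (C.comm_iff ha hxJ).mpr (by rw [ea]; exact pa)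
    have bx : Commute b x := (C.comm_iff hb hxJ).mpr (by rw [eb]; exact pb)
    have aJ := C.R_in g hxJ hne ha (by rw [ea]; rfl) ax
    have bJ := C.R_in g hxJ hne hb (by rw [eb]; rfl) bx
    have e := C.noncomm ha hb (by rw [ea, eb]; exact (plane_bq C.e C.he).2.2.2.1)
    rcases C.comm_or aJ bJ with h | h
    · refine C.B_one ha hb (by rw [ea, eb]; exact (plane_bq C.e C.he).2.2.2.1) ?_
      have := h.map (MulAut.conj g).toMonoidHom
      simp only [MulEquiv.coe_toMonoidHom, MulAut.conj_apply] at this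
      rwa [show g * (g⁻¹ * a * g) * g⁻¹ = a by group, show g * (g⁻¹ * b * g) * g⁻¹ = b by group] at this
    · rw [← frame_mul, ← frame_mul, e, frame_mul] at h
      exact C.z_ne_x g hne (mul_right_cancel h)
  -- the element of the second plane
  obtain ⟨r, hr, er⟩ := C.κ_surj u lu
  have hrR : C.κ r &&& 63 = 0 := by rw [er]; exact hu63
  have rx : Commute r x := (C.comm_iff hr hxJ).mpr (by rw [er]; exact bu)
  have rJ := C.R_in g hxJ hne hr hrR rx
  obtain ⟨ρ, hρ, eρ, ρJ, ρ0⟩ : ∃ ρ ∈ C.J, C.κ ρ = u ∧ g⁻¹ * ρ * g ∈ C.J ∧ C.κ (g⁻¹ * ρ * g) &&& 63 = 0 := by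
    rcases C.R_part g hxJ hne hr hrR rJ with h | h
    · exact ⟨r, hr, er, rJ, h⟩
    · refine ⟨r * C.z, mul_mem hr C.zJ, by rw [C.κ_mul_z hr, er], ?_, ?_⟩
      · rw [frame_mul]; exact mul_mem rJ hyJ
      · rw [frame_mul, C.κ_mul _ rJ _ hyJ, Nat.and_xor_distrib_right, h, Nat.xor_self]
  have ρ2 : ρ * ρ = 1 := by rw [C.sq ρ hρ, eρ, qu]; rfl
  have ρx : Commute ρ x := (C.comm_iff hρ hxJ).mpr (by rw [eρ]; exact bu)
  have ρne1 : ρ ≠ 1 := fun h => u0 (by rw [← eρ, h, C.κ_one])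
  have notconj : ∀ f : G, ρ ≠ f * C.z * f⁻¹ := by
    intro f h
    by_cases hz : f * C.z * f⁻¹ = C.z
    · exact u0 (by rw [← eρ, h, hz, C.κ_z])
    · exact (inv_data f (h ▸ hρ) hz).1 (by rw [← h, eρ]; exact hu63)
  obtain ⟨c, hc, ncρ⟩ := C.partner hρ (by rw [eρ]; exact u0)
  have notconj' : ∀ f : G, ρ * C.z ≠ f * C.z * f⁻¹ := by
    intro f h
    refine notconj (c⁻¹ * f) ?_
    rw [show c⁻¹ * f * C.z * (c⁻¹ * f)⁻¹ = c⁻¹ * (f * C.z * f⁻¹) * c by group, ← h, ← C.conj_flip hc hρ ncρ]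
    group
  -- the second element
  set s := ρ * x with hs
  have hsJ : s ∈ C.J := mul_mem hρ hxJ
  have hsw : C.κ s = w := by rw [hs, C.κ_mul ρ hρ x hxJ, eρ, px, Nat.xor_comm w, U42Act.xcancel]
  obtain ⟨j', hj'⟩ : ∃ j', j' * ρ * j'⁻¹ = s := by
    have k0 : C.κ (g⁻¹ * ρ * g) ≠ 0 := by
      intro h
      rcases (C.κ_ker _ ρJ).mp h with h | h
      · exact ρne1 (by rw [show ρ = g * (g⁻¹ * ρ * g) * g⁻¹ by group, h]; group)
      · exact notconj g (by rw [show ρ = g * (g⁻¹ * ρ * g) * g⁻¹ by group, h])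
    obtain ⟨d, hd, ndρ⟩ := C.partner ρJ k0
    refine ⟨g * d * g⁻¹, ?_⟩
    rw [show g * d * g⁻¹ * ρ * (g * d * g⁻¹)⁻¹ = g * (d * (g⁻¹ * ρ * g) * d⁻¹) * g⁻¹ by group,
      C.conj_flip hd ρJ ndρ, hs, hx]
    group
  -- Sylow subgroups
  set K := Subgroup.centralizer ({C.z} : Set G) ⊓ Subgroup.centralizer {ρ} with hK
  have memK : ∀ {k}, k ∈ K ↔ Commute k C.z ∧ Commute k ρ := fun {k} => by
    rw [hK, Subgroup.mem_inf, Subgroup.mem_centralizer_singleton_iff, Subgroup.mem_centralizer_singleton_iff]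
    exact Iff.rfl
  obtain ⟨S⟩ : Nonempty (Sylow 2 K) := inferInstance
  set T0 : Subgroup G := (S : Subgroup K).map K.subtype with hT0
  have T0K : T0 ≤ K := Subgroup.map_subtype_le _
  have T0p : IsPGroup 2 T0 := S.2.map _
  have maxi : ∀ Q : Subgroup G, IsPGroup 2 Q → Q ≤ K → T0 ≤ Q → Q = T0 := by
    intro Q hQ hQK hle
    have e : Q.subgroupOf K = (S : Subgroup K) := S.3 (hQ.comap_of_injective _ K.subtype_injective)
      (fun k hk => hle ⟨k, hk, rfl⟩)
    rw [hT0, ← e, Subgroup.map_subgroupOf_eq_of_le hQK]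
  set L := C.J ⊓ Subgroup.centralizer {ρ} with hL
  have memL : ∀ {k}, k ∈ L ↔ k ∈ C.J ∧ Commute k ρ := fun {k} => by
    rw [hL, Subgroup.mem_inf, Subgroup.mem_centralizer_singleton_iff]; exact Iff.rfl
  have LK : L ≤ K := fun k hk => memK.mpr ⟨C.Jz k (memL.mp hk).1, (memL.mp hk).2⟩
  have Ln : K ≤ Subgroup.normalizer (L : Set G) := by
    have one : ∀ k ∈ K, ∀ l ∈ L, k * l * k⁻¹ ∈ L := fun k hk l hl => memL.mpr
      ⟨C.conjJ k (memK.mp hk).1 l (memL.mp hl).1, ((memK.mp hk).2.mul_left (memL.mp hl).2).mul_left (memK.mp hk).2.inv_left⟩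
    intro k hk
    refine Subgroup.mem_normalizer_iff.mpr fun l => ⟨one k hk l, fun h => ?_⟩
    have := one k⁻¹ (inv_mem hk) _ h
    rwa [show k⁻¹ * (k * l * k⁻¹) * k⁻¹⁻¹ = l by group] at this
  have LT : L ≤ T0 := by
    have h1 : IsPGroup 2 (L ⊔ T0 : Subgroup G) :=
      (C.isPGroup_J.to_le inf_le_left).to_sup_of_normal_left' T0p (T0K.trans Ln)
    exact le_sup_left.trans (maxi _ h1 (sup_le LK T0K) le_sup_right).le
  have zL : C.z ∈ L := memL.mpr ⟨C.zJ, (C.Jz ρ hρ).symm⟩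
  have ρL : ρ ∈ L := memL.mpr ⟨hρ, Commute.refl _⟩
  have ZT : ∀ m ∈ T0, (∀ t ∈ T0, Commute m t) → m = 1 ∨ m = C.z ∨ m = ρ ∨ m = ρ * C.z := by
    intro m hm hcen
    have mz := (memK.mp (T0K hm)).1
    have low : ∀ v < 64, ∀ j ∈ C.J, C.κ j = v → Commute j ρ := fun v hv j hj ej => (C.comm_iff hj hρ).mpr (by
      rw [ej, eρ, C.B_comm]
      obtain ⟨e1, l1, -, -, h1, -⟩ := parts v (by omega)
      obtain ⟨pa, pb⟩ := plane_low C.e C.he v hv
      exact low_bq u lu hu63 v hv)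
    have hσ : C.σ m = 1 := pw_inj fun v hv => by
      obtain ⟨j, hj, ej⟩ := C.κ_surj v (by omega)
      have := C.κ_W m mz j hj
      rw [(hcen j (LT (memL.mpr ⟨hj, low v hv j hj ej⟩))).eq, mul_inv_cancel_right, ej,
        (parts v (by omega)).2.2.2.2.1 hv] at this
      exact this.symm
    have mJ := (C.σ_ker m mz).mp hσ
    have gen : ∀ q ∈ C.J, Commute q c → (∀ l ∈ L, Commute q l) → C.κ q = 0 := by
      intro q hq qc ql
      by_contra h0
      obtain ⟨d, hd, nd⟩ := C.partner hq h0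
      by_cases hdρ : Commute d ρ
      · exact nd (ql d (memL.mpr ⟨hd, hdρ⟩)).symm
      · refine nd ?_
        have := (ql (d * c) (memL.mpr ⟨mul_mem hd hc, C.two_non hd hc hρ hdρ ncρ⟩)).mul_right qc.inv_right
        rwa [mul_inv_cancel_right, Commute.symm_iff] at this
    have key : C.κ m = 0 ∨ C.κ m = u := by
      by_cases hmc : Commute m c
      · exact Or.inl (gen m mJ hmc fun l hl => hcen l (LT hl))
      · have := gen (m * ρ) (mul_mem mJ hρ) (C.two_non mJ hρ hc hmc fun e => ncρ e.symm)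
          fun l hl => (hcen l (LT hl)).mul_left (memL.mp hl).2.symm
        rw [C.κ_mul m mJ ρ hρ, eρ] at this
        exact Or.inr (U42Act.xzero this)
    rcases key with h | h
    · rcases (C.κ_ker m mJ).mp h with h | h
      · exact Or.inl h
      · exact Or.inr (Or.inl h)
    · exact Or.inr (Or.inr (C.κ_eq mJ hρ (h.trans eρ.symm)))
  have pick : ∀ f : G, f * C.z * f⁻¹ ∈ T0 → (∀ t ∈ T0, Commute (f * C.z * f⁻¹) t) → f * C.z * f⁻¹ = C.z := by
    intro f h1 h2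
    rcases ZT _ h1 h2 with h | h | h | h
    · exact absurd (by rw [show C.z = f⁻¹ * (f * C.z * f⁻¹) * f by group, h]; group) C.z1
    · exact h
    · exact absurd h.symm (notconj f)
    · exact absurd h.symm (notconj' f)
  -- a Sylow subgroup of the whole centraliser
  set M := Subgroup.centralizer ({ρ} : Set G) with hM
  have memM : ∀ {k}, k ∈ M ↔ Commute k ρ := fun {k} => by
    rw [hM, Subgroup.mem_centralizer_singleton_iff]; exact Iff.rfl
  have KM : K ≤ M := fun k hk => memM.mpr (memK.mp hk).2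
  obtain ⟨Q, hQ⟩ := (T0p.comap_of_injective M.subtype M.subtype_injective).exists_le_sylow
  have eQ : (Q : Subgroup M) = T0.subgroupOf M := by
    refine le_antisymm ?_ hQ
    by_contra hlt
    haveI : Group.IsNilpotent (Q : Subgroup M) := Q.2.isNilpotent
    have hlt' : (T0.subgroupOf M).subgroupOf Q < ⊤ := lt_top_iff_ne_top.mpr fun h => hlt (Subgroup.subgroupOf_eq_top.mp h)
    obtain ⟨n, hn, hn'⟩ := SetLike.exists_of_lt (Group.normalizerCondition_of_isNilpotent _ hlt')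
    set f : G := n.1.1 with hf
    have nn : ∀ t ∈ T0, f * t * f⁻¹ ∈ T0 := by
      intro t ht
      have tQ : (⟨t, KM (T0K ht)⟩ : M) ∈ (Q : Subgroup M) := hQ ht
      exact (Subgroup.mem_normalizer_iff.mp hn ⟨_, tQ⟩).mp ht
    have fz : f * C.z * f⁻¹ = C.z := pick f (nn _ (LT zL)) fun t ht => by
      have t' : f⁻¹ * t * f ∈ T0 := by
        have tQ : (⟨t, KM (T0K ht)⟩ : M) ∈ (Q : Subgroup M) := hQ ht
        exact (Subgroup.mem_normalizer_iff''.mp hn ⟨_, tQ⟩).mp ht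
      have := ((memK.mp (T0K t')).1).symm.map (MulAut.conj f).toMonoidHom
      simp only [MulEquiv.coe_toMonoidHom, MulAut.conj_apply] at this
      rwa [show f * (f⁻¹ * t * f) * f⁻¹ = t by group] at this
    have fK : f ∈ K := memK.mpr ⟨mul_inv_eq_iff_eq_mul.mp fz, memM.mp n.1.2⟩
    have T0Q : T0 ≤ K ⊓ (Q : Subgroup M).map M.subtype := fun t ht =>
      ⟨T0K ht, ⟨⟨t, KM (T0K ht)⟩, hQ ht, rfl⟩⟩
    have := maxi _ ((Q.2.map M.subtype).to_le inf_le_right) inf_le_left T0Q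
    exact hn' (show f ∈ T0 from this ▸ ⟨fK, ⟨n.1, n.2, rfl⟩⟩)
  -- the other subgroup
  have hT2 : IsPGroup 2 (C.J ⊔ T0 : Subgroup G) := C.isPGroup_J.to_sup_of_normal_left' T0p (by
    intro k hk
    have kz := (memK.mp (T0K hk)).1
    refine Subgroup.mem_normalizer_iff.mpr fun l => ⟨C.conjJ k kz l, fun h => ?_⟩
    have := C.conjJ k⁻¹ kz.inv_left _ h
    rwa [show k⁻¹ * (k * l * k⁻¹) * k⁻¹⁻¹ = l by group] at this)
  have T2z : ∀ t ∈ C.J ⊔ T0, Commute t C.z := by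
    have : C.J ⊔ T0 ≤ Subgroup.centralizer {C.z} := sup_le
      (fun j hj => Subgroup.mem_centralizer_singleton_iff.mpr (C.Jz j hj)) (T0K.trans inf_le_left)
    exact fun t ht => Subgroup.mem_centralizer_singleton_iff.mp (this ht)
  obtain ⟨v, hv, v0, vq, vfix⟩ := C.two_fix _ hT2 T2z
  obtain ⟨a, ha, hav⟩ := transit lw hv w0 v0 wq vq
  obtain ⟨h, hh, eh⟩ := C.σ_surj a ha
  set T3 := (C.J ⊔ T0 : Subgroup G).map (MulAut.conj h).toMonoidHom with hT3
  have T3z : ∀ t ∈ T3, Commute t C.z ∧ pw (C.σ t) w = w := by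
    rintro _ ⟨t, ht, rfl⟩
    have tz := T2z t ht
    show Commute (h * t * h⁻¹) C.z ∧ pw (C.σ (h * t * h⁻¹)) w = w
    refine ⟨(hh.mul_left tz).mul_left hh.inv_left, ?_⟩
    rw [C.σ_conj hh tz, eh, pw_mul, pw_mul, ← hav, pw_inv_self a (by omega), vfix t ht]
  have T3s : ∀ t ∈ T3, t * s * t⁻¹ = s ∨ t * s * t⁻¹ = s * C.z := by
    intro t ht
    obtain ⟨tz, tw⟩ := T3z t ht
    have l := C.κ_low t tz s hsJ (by rw [hsw]; exact lw)
    refine C.κ_eq (C.conjJ t tz s hsJ) hsJ ?_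
    rw [← (parts _ (by omega)).2.2.2.2.1 l, C.κ_W t tz s hsJ, hsw, (parts w (by omega)).2.2.2.2.1 lw, tw]
  set T1 := T3 ⊓ Subgroup.centralizer {s} with hT1
  have memT1 : ∀ {k}, k ∈ T1 ↔ k ∈ T3 ∧ Commute k s := fun {k} => by
    rw [hT1, Subgroup.mem_inf, Subgroup.mem_centralizer_singleton_iff]; exact Iff.rfl
  have hind : (T1.subgroupOf T3).index ≤ 2 := by
    by_cases hall : ∀ t ∈ T3, Commute t s
    · rw [show T1.subgroupOf T3 = ⊤ from Subgroup.subgroupOf_eq_top.mpr fun t ht => memT1.mpr ⟨ht, hall t ht⟩,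
        Subgroup.index_top]
      norm_num
    · push Not at hall
      obtain ⟨d, hd, nds⟩ := hall
      have flip : ∀ t ∈ T3, ¬ Commute t s → t * s * t⁻¹ = s * C.z := fun t ht nt =>
        (T3s t ht).resolve_left fun e => nt (mul_inv_eq_iff_eq_mul.mp e)
      refine le_of_eq (Subgroup.index_eq_two_iff.mpr ⟨⟨d, hd⟩, fun b => ?_⟩)
      simp only [Subgroup.mem_subgroupOf, Subgroup.coe_mul, memT1]
      by_cases hb : Commute b.1 s
      · refine Or.inr ⟨⟨b.2, hb⟩, fun h => nds ?_⟩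
        have := hb.inv_left.mul_left h.2
        rwa [inv_mul_cancel_left] at this
      · refine Or.inl ⟨⟨mul_mem b.2 hd, ?_⟩, fun h => hb h.2⟩
        refine mul_inv_eq_iff_eq_mul.mp ?_
        rw [show b.1 * d * s * (b.1 * d)⁻¹ = b.1 * (d * s * d⁻¹) * b.1⁻¹ by group, flip d hd nds,
          show b.1 * (s * C.z) * b.1⁻¹ = (b.1 * s * b.1⁻¹) * (b.1 * C.z * b.1⁻¹) by group, flip b.1 b.2 hb,
          (T3z b.1 b.2).1.eq, mul_inv_cancel_right, mul_assoc, C.zz, mul_one]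
  have hcard : Nat.card T0 ≤ Nat.card T1 := by
    have h3 : Nat.card T3 = Nat.card (C.J ⊔ T0 : Subgroup G) :=
      (Nat.card_congr (Subgroup.equivMapOfInjective _ _ (MulAut.conj h).injective).toEquiv).symm
    have h2 : 2 * Nat.card T0 ≤ Nat.card (C.J ⊔ T0 : Subgroup G) := by
      have hne' : ¬ (C.J ⊔ T0 ≤ T0) := fun hle => ncρ (memK.mp (T0K (hle (Subgroup.mem_sup_left hc)))).2
      obtain ⟨k, hk⟩ := Subgroup.card_dvd_of_le (le_sup_right : T0 ≤ C.J ⊔ T0)
      have : 2 ≤ k := by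
        by_contra hk2
        have kpos : k ≠ 0 := by
          rintro rfl
          rw [mul_zero] at hk
          exact absurd hk Nat.card_pos.ne'
        exact hne' (Subgroup.eq_of_le_of_card_ge (le_sup_right : T0 ≤ C.J ⊔ T0) (by
          rw [hk, show k = 1 by omega, mul_one])).ge
      rw [hk]
      calc 2 * Nat.card T0 ≤ k * Nat.card T0 := Nat.mul_le_mul_right _ this
        _ = Nat.card T0 * k := mul_comm _ _
    have h1 := Subgroup.card_mul_index (T1.subgroupOf T3)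
    rw [Nat.card_congr (Subgroup.subgroupOfEquivOfLe (inf_le_left : T3 ⊓ _ ≤ T3)).toEquiv] at h1
    have : Nat.card T3 ≤ Nat.card T1 * 2 := h1 ▸ Nat.mul_le_mul_left _ hind
    omega
  set U := T1.map (MulAut.conj j'⁻¹).toMonoidHom with hU
  have UM : U ≤ M := by
    rintro _ ⟨t, ht, rfl⟩
    refine memM.mpr ?_
    have := (memT1.mp ht).2.map (MulAut.conj j'⁻¹).toMonoidHom
    rw [← hj'] at this
    simp only [MulEquiv.coe_toMonoidHom, MulAut.conj_apply, inv_inv] at this ⊢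
    rwa [show j'⁻¹ * (j' * ρ * j'⁻¹) * j' = ρ by group] at this
  have Up : IsPGroup 2 U := (((hT2.map _).to_le inf_le_left : IsPGroup 2 T1)).map _
  obtain ⟨R, hR⟩ := (Up.comap_of_injective M.subtype M.subtype_injective).exists_le_sylow
  obtain ⟨k, rfl⟩ := MulAction.exists_smul_eq M Q R
  have eR : U.subgroupOf M = ((k • Q : Sylow 2 M) : Subgroup M) := by
    refine Subgroup.eq_of_le_of_card_ge hR ?_
    calc Nat.card (↥((k • Q : Sylow 2 M) : Subgroup M)) = Nat.card ↥(Q : Subgroup M) :=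
          ((Q.card_eq_multiplicity).trans ((k • Q).card_eq_multiplicity).symm).symm
      _ = Nat.card T0 := by rw [eQ]; exact Nat.card_congr (Subgroup.subgroupOfEquivOfLe (T0K.trans KM)).toEquiv
      _ ≤ Nat.card T1 := hcard
      _ = Nat.card U := Nat.card_congr (Subgroup.equivMapOfInjective _ _ (MulAut.conj j'⁻¹).injective).toEquiv
      _ = Nat.card (U.subgroupOf M) := (Nat.card_congr (Subgroup.subgroupOfEquivOfLe UM).toEquiv).symm
  have move : ∀ m : M, m ∈ (Q : Subgroup M) ↔ k * m * k⁻¹ ∈ U.subgroupOf M := by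
    intro m
    rw [eR, Sylow.coe_subgroup_smul, ← MulAut.conj_apply]
    exact (Subgroup.smul_mem_pointwise_smul_iff).symm
  set f := k.1⁻¹ * j'⁻¹ with hf
  have zT3 : C.z ∈ T1 := by
    refine memT1.mpr ⟨⟨C.z, Subgroup.mem_sup_left C.zJ, ?_⟩, (C.Jz s hsJ).symm⟩
    show h * C.z * h⁻¹ = C.z
    rw [hh.eq, mul_inv_cancel_right]
  have fT0 : ∀ t : G, t ∈ T0 ↔ k.1 * t * k.1⁻¹ ∈ U ∧ t ∈ M := by
    intro t
    constructor
    · intro ht
      exact ⟨(move ⟨t, KM (T0K ht)⟩).mp (eQ ▸ ht), KM (T0K ht)⟩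
    · rintro ⟨h1, h2⟩
      have h3 := (move ⟨t, h2⟩).mpr h1
      rw [eQ] at h3
      exact h3
  have hfz : f * C.z * f⁻¹ = C.z := by
    refine pick f ((fT0 _).mpr ⟨?_, ?_⟩) fun t ht => ?_
    · refine ⟨C.z, zT3, ?_⟩
      show j'⁻¹ * C.z * j'⁻¹⁻¹ = _
      rw [hf]; group
    · refine memM.mpr ?_
      have hzU : Commute (j'⁻¹ * C.z * j') ρ := memM.mp (UM ⟨C.z, zT3, by
        show j'⁻¹ * C.z * j'⁻¹⁻¹ = _
        rw [inv_inv]⟩)
      have := hzU.map (MulAut.conj k.1⁻¹).toMonoidHom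
      simp only [MulEquiv.coe_toMonoidHom, MulAut.conj_apply, inv_inv] at this
      rw [show k.1⁻¹ * ρ * k.1 = ρ by rw [mul_assoc, ← (memM.mp k.2).eq, inv_mul_cancel_left]] at this
      rw [hf]
      convert this using 1; group
    · obtain ⟨q, hq, eq'⟩ := ((fT0 t).mp ht).1
      have qz := (T3z q (memT1.mp hq).1).1
      have := qz.symm.map (MulAut.conj f).toMonoidHom
      simp only [MulEquiv.coe_toMonoidHom, MulAut.conj_apply] at this eq'
      rwa [show f * q * f⁻¹ = t by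
        rw [inv_inv] at eq'
        rw [hf, show k.1⁻¹ * j'⁻¹ * q * (k.1⁻¹ * j'⁻¹)⁻¹ = k.1⁻¹ * (j'⁻¹ * q * j') * k.1 by group, eq']; group] at this
  have fzc : Commute f C.z := mul_inv_eq_iff_eq_mul.mp hfz
  have fs : f * s * f⁻¹ = ρ := by
    rw [hf, ← hj', show k.1⁻¹ * j'⁻¹ * (j' * ρ * j'⁻¹) * (k.1⁻¹ * j'⁻¹)⁻¹ = k.1⁻¹ * ρ * k.1 by group, mul_assoc,
      ← (memM.mp k.2).eq, inv_mul_cancel_left]
  have := C.κ_W f fzc s hsJ
  rw [fs, eρ, hu63, hsw, (parts w (by omega)).2.2.2.2.1 lw] at this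
  exact w0 (pw_cancel (C.σ f) (by omega) (by norm_num) (this.symm.trans (pw_zero _).symm))
where
  low_bq : ∀ u < 256, u &&& 63 = 0 → ∀ v < 64, bq (qW C.e) u v = 0 := by
    intro u hu h v hv
    exact (show ∀ e < 2, ∀ u < 256, u &&& 63 = 0 → ∀ v < 64, bq (qW e) u v = 0 by decide +kernel) C.e C.he u hu h v hv

end Setting

end CfsgLib.SixTwoType
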