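/-
Displacements of an involution outside the extraspecial group.
-/
import Cfsg.Agent.Lib.SixTwoType.NoJ

set_option autoImplicit false
set_option maxRecDepth 100000
set_option maxHeartbeats 1000000
set_option linter.unusedVariables false

namespace CfsgLib.SixTwoType

open U6Rec
open CfsgLib.U42Act (qW bq)

attribute [local irreducible] U6Rec.comp U6Rec.app psi

theorem X0_conj_mem (p : XG) {q : XG} (hq : q ∈ X0) : p * q * p⁻¹ ∈ X0 := by
  by_cases hp : p ∈ X0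
  · exact X0.mul_mem (X0.mul_mem hp hq) (X0.inv_mem hp)
  · refine X0_two (fun h => hp ?_) fun h => hp (X0.inv_mem_iff.mp h)
    have := X0.mul_mem h (X0.inv_mem hq)
    rwa [mul_inv_cancel_right] at this

theorem X0_comm (p q : XG) : p * q * p⁻¹ * q⁻¹ ∈ X0 := by
  by_cases hq : q ∈ X0
  · exact X0.mul_mem (X0_conj_mem p hq) (X0.inv_mem hq)
  · refine X0_two (fun h => hq ?_) fun h => hq (X0.inv_mem_iff.mp h)
    have := X0_conj_mem p⁻¹ h
    rwa [show p⁻¹ * (p * q * p⁻¹) * p⁻¹⁻¹ = q by group] at this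

theorem high_perp : ∀ e < 2, ∀ v < 256, bq (qW e) 64 v = 0 → bq (qW e) 128 v = 0 → v < 64 := by decide +kernel

theorem low_bq_eq {e u v : ℕ} (he : e < 2) (hu : u < 64) (hv : v < 64) : bq (qW e) u v = bq (qW 0) u v := by
  simp only [bq]
  rw [(qW_split e he u (by omega)).2.2.2.1 hu, (qW_split e he v (by omega)).2.2.2.1 hv,
    (qW_split e he _ (U42Act.xlt (by omega) (by omega))).2.2.2.1 (Nat.xor_lt_two_pow (n := 6) hu hv)]

namespace Setting

variable {G : Type*} [Group G] (C : Setting G)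

/-- The fixed part modulo the centre. -/
def flip (x : G) (hx : Commute x C.z) : Subgroup G where
  carrier := {t | t ∈ C.J ∧ C.κ (x * t * x⁻¹) = C.κ t}
  one_mem' := ⟨one_mem _, by rw [mul_one, mul_inv_cancel]⟩
  mul_mem' := fun {a b} ha hb => ⟨mul_mem ha.1 hb.1, by
    rw [show x * (a * b) * x⁻¹ = (x * a * x⁻¹) * (x * b * x⁻¹) by group,
      C.κ_mul _ (C.conjJ x hx a ha.1) _ (C.conjJ x hx b hb.1), C.κ_mul a ha.1 b hb.1, ha.2, hb.2]⟩
  inv_mem' := fun {a} ha => ⟨inv_mem ha.1, by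
    rw [show x * a⁻¹ * x⁻¹ = (x * a * x⁻¹)⁻¹ by group, C.κ_inv (C.conjJ x hx a ha.1), C.κ_inv ha.1, ha.2]⟩

theorem flip_cases {x t : G} (hx : Commute x C.z) (ht : t ∈ C.flip x hx) :
    Commute t x ∨ t * x * t⁻¹ = x * C.z := by
  rcases C.κ_eq (C.conjJ x hx t ht.1) ht.1 ht.2 with h | h
  · exact Or.inl (mul_inv_eq_iff_eq_mul.mp h : x * t = t * x).symm
  · refine Or.inr ?_
    have e : x * t = t * C.z * x := mul_inv_eq_iff_eq_mul.mp h
    calc t * x * t⁻¹ = t * C.z * x * (C.z * t⁻¹) * (t * (C.z * C.z)⁻¹ * t⁻¹) := by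
          simp only [mul_assoc]; rw [show x * (C.z * (t⁻¹ * (t * ((C.z * C.z)⁻¹ * t⁻¹)))) = x * (C.z⁻¹ * t⁻¹) by group]
          rw [C.z_inv, show t * (C.z * (x * (C.z * t⁻¹))) = t * (C.z * x * C.z) * t⁻¹ by group, hx.symm.eq,
            mul_assoc x, C.zz]; group
      _ = x * t * (C.z * t⁻¹) := by rw [← e, C.zz]; group
      _ = _ := by rw [show x * t * (C.z * t⁻¹) = x * (t * C.z * t⁻¹) by group, (C.Jz t ht.1).eq]; group

/-- Two of the non-centralising elements multiply into the centraliser. -/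
theorem flip_two {x u v : G} (hx : Commute x C.z) (hu : u ∈ C.flip x hx) (hv : v ∈ C.flip x hx)
    (nu : ¬ Commute u x) (nv : ¬ Commute v x) : Commute (u * v) x := by
  refine mul_inv_eq_iff_eq_mul.mp ?_
  rw [show u * v * x * (u * v)⁻¹ = u * (v * x * v⁻¹) * u⁻¹ by group, (C.flip_cases hx hv).resolve_left nv,
    show u * (x * C.z) * u⁻¹ = (u * x * u⁻¹) * (u * C.z * u⁻¹) by group, (C.flip_cases hx hu).resolve_left nu,
    (C.Jz u hu.1).eq, mul_inv_cancel_right, mul_assoc, C.zz, mul_one]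

theorem flip_of_fix {x : G} (hx : Commute x C.z) {t : G} (ht : t ∈ C.J)
    (hf : pw (C.σ x) (C.κ t &&& 63) = C.κ t &&& 63) (h : C.σ x ∈ X0 ∨ C.κ t < 64) : t ∈ C.flip x hx := by
  refine ⟨ht, ?_⟩
  rcases h with h | h
  · rw [C.κ_inner x hx h t ht, pw_parts _ (C.κ_lt t ht), hf]
    exact (parts _ (C.κ_lt t ht)).1.symm
  · have l := C.κ_low x hx t ht h
    rw [← (parts _ (by omega)).2.2.2.2.1 l, C.κ_W x hx t ht, hf]
    exact (parts _ (by omega)).2.2.2.2.1 h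

/-- Displacements commute with the fixed part. -/
theorem flip_disp {x t j : G} (hx : Commute x C.z) (ht : t ∈ C.flip x hx) (hj : j ∈ C.J) :
    Commute t (x * j * x * j⁻¹) := by
  refine mul_inv_eq_iff_eq_mul.mp ?_
  rw [show t * (x * j * x * j⁻¹) * t⁻¹ = (t * x * t⁻¹) * (t * j * t⁻¹) * (t * x * t⁻¹) * (t * j * t⁻¹)⁻¹ by group]
  have cz : ∀ a : G, Commute a C.z → a * C.z = C.z * a := fun a h => h.eq
  have hjt : t * j * t⁻¹ = j ∨ t * j * t⁻¹ = j * C.z := C.κ_eq (mul_mem (mul_mem ht.1 hj) (inv_mem ht.1)) hj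
    (C.κ_conjJ ht.1 hj)
  have zx : C.z * x = x * C.z := hx.eq.symm
  have zj : C.z * j = j * C.z := (C.Jz j hj).eq.symm
  have zzl : ∀ a : G, C.z * (C.z * a) = a := fun a => by rw [← mul_assoc, C.zz, one_mul]
  have zxl : ∀ a : G, C.z * (x * a) = x * (C.z * a) := fun a => by rw [← mul_assoc, zx, mul_assoc]
  have zjl : ∀ a : G, C.z * (j * a) = j * (C.z * a) := fun a => by rw [← mul_assoc, zj, mul_assoc]
  have zji : ∀ a : G, C.z * (j⁻¹ * a) = j⁻¹ * (C.z * a) := fun a => by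
    rw [← mul_assoc, (C.Jz j hj).symm.inv_right.eq, mul_assoc]
  rcases C.flip_cases hx ht with h | h <;> rcases hjt with h' | h'
  · rw [h', (mul_inv_eq_iff_eq_mul.mpr h.eq : t * x * t⁻¹ = x)]
  · rw [h', (mul_inv_eq_iff_eq_mul.mpr h.eq : t * x * t⁻¹ = x), mul_inv_rev, C.z_inv]
    simp only [mul_assoc, zx, zxl, zj, zjl, zzl, zji, C.zz, mul_one]
  · rw [h', h]
    simp only [mul_assoc, zx, zxl, zj, zjl, zzl, zji, C.zz, mul_one]
  · rw [h', h, mul_inv_rev, C.z_inv]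
    simp only [mul_assoc, zx, zxl, zj, zjl, zzl, zji, C.zz, mul_one]

/-- The displacement of an element. -/
theorem disp_props {x j : G} (hx : Commute x C.z) (x2 : x * x = 1) (hj : j ∈ C.J) :
    x * j * x * j⁻¹ ∈ C.J ∧ x * (x * j * x * j⁻¹) = j * x * j⁻¹ ∧
      x * (x * j * x * j⁻¹) * x⁻¹ = (x * j * x * j⁻¹)⁻¹ := by
  obtain ⟨d1, d2, d3, -⟩ := C.disp hx x2 hj
  refine ⟨d2 ▸ d1, d3.symm, ?_⟩
  rw [← d3, inv_eq_of_mul_eq_one_right x2, mul_inv_rev, mul_inv_rev, mul_inv_rev, inv_inv,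
    inv_eq_of_mul_eq_one_right x2]
  group

theorem disp_κ {x j : G} (hx : Commute x C.z) (x2 : x * x = 1) (hj : j ∈ C.J) (h : C.σ x ∈ X0 ∨ C.κ j < 64) :
    C.κ (x * j * x * j⁻¹) = (C.κ j &&& 63) ^^^ pw (C.σ x) (C.κ j &&& 63) := by
  obtain ⟨d1, d2, -, d4⟩ := C.disp hx x2 hj
  rw [← d4]
  have hlt : C.κ (x * j * x * j⁻¹) < 64 := by
    rw [d2, C.κ_mul _ (C.conjJ x hx j hj) _ (inv_mem hj), C.κ_inv hj]
    rcases h with h | h
    · rw [C.κ_inner x hx h j hj, pw_parts _ (C.κ_lt j hj)]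
      obtain ⟨e, l, -, -⟩ := parts _ (C.κ_lt j hj)
      conv_lhs => arg 2; rw [e]
      rw [Nat.xor_assoc, Nat.xor_comm (C.κ j &&& 63), U42Act.xcancel]
      exact Nat.xor_lt_two_pow (n := 6) (pw_six _ l) l
    · exact Nat.xor_lt_two_pow (n := 6) (C.κ_low x hx j hj h) h
  exact ((parts _ (by omega)).2.2.2.2.1 hlt).symm

/-- A displacement of order two centralises. -/
theorem disp_comm {x j : G} (hx : Commute x C.z) (x2 : x * x = 1) (hj : j ∈ C.J)
    (hq : qW C.e (C.κ (x * j * x * j⁻¹)) ≠ 1) :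
    Commute (x * j * x * j⁻¹) x ∧ (x * j * x * j⁻¹) * (x * j * x * j⁻¹) = 1 := by
  obtain ⟨hc, -, h3⟩ := C.disp_props hx x2 hj
  have c2 := C.sq _ hc
  rw [if_neg hq] at c2
  refine ⟨?_, c2⟩
  rw [inv_eq_of_mul_eq_one_right c2] at h3
  exact (mul_inv_eq_iff_eq_mul.mp h3 : x * _ = _ * x).symm

/-- A displacement of order four moves the involution into its product with the centre. -/
theorem disp_move {x j : G} (hx : Commute x C.z) (x2 : x * x = 1) (hj : j ∈ C.J)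
    (hq : qW C.e (C.κ (x * j * x * j⁻¹)) = 1) :
    x * j * x * j⁻¹ ∈ C.flip x hx ∧ ¬ Commute (x * j * x * j⁻¹) x := by
  obtain ⟨hc, -, h3⟩ := C.disp_props hx x2 hj
  refine ⟨⟨hc, by rw [h3, C.κ_inv hc]⟩, fun h => ?_⟩
  set c := x * j * x * j⁻¹
  rw [h.symm.eq, mul_inv_cancel_right] at h3
  have c2 := C.sq c hc
  rw [if_pos hq] at c2
  exact C.z1 (by rw [← c2]; nth_rewrite 1 [h3]; exact inv_mul_cancel c)

/-- An inner involution has a non-commuting pair in its centraliser. -/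
theorem inner_pair {x : G} (hx : Commute x C.z) (x2 : x * x = 1) (x1 : C.σ x ≠ 1) (h0 : C.σ x ∈ X0) :
    ∃ a ∈ C.J, ∃ b ∈ C.J, Commute a x ∧ Commute b x ∧ ¬ Commute a b := by
  have s2 : C.σ x * C.σ x = 1 := by rw [← C.σ_mul x x hx hx, x2, C.σ_one]
  obtain ⟨⟨p, hp, q, hq, fp, fq, hB⟩, -, -⟩ := inner_facts h0 s2 x1
  obtain ⟨a, ha, ea⟩ := C.κ_surj p (by omega)
  obtain ⟨b, hb, eb⟩ := C.κ_surj q (by omega)
  obtain ⟨c, hc, ec⟩ := C.κ_surj 64 (by norm_num)
  obtain ⟨d, hd, ed⟩ := C.κ_surj 128 (by norm_num)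
  have ap := parts p (by omega)
  have aq := parts q (by omega)
  have fa := C.flip_of_fix hx ha (by rw [ea, ap.2.2.2.2.1 hp, fp]) (Or.inl h0)
  have fb := C.flip_of_fix hx hb (by rw [eb, aq.2.2.2.2.1 hq, fq]) (Or.inl h0)
  have fc := C.flip_of_fix hx hc (by rw [ec]; exact pw_zero _) (Or.inl h0)
  have fd := C.flip_of_fix hx hd (by rw [ed]; exact pw_zero _) (Or.inl h0)
  obtain ⟨P1, -, -, P4, -⟩ := plane_bq C.e C.he
  have low := fun v hv => plane_low C.e C.he v hv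
  have le : Subgroup.closure ({a, b, c, d} : Set G) ≤ C.flip x hx :=
    (Subgroup.closure_le _).mpr (by rintro t (rfl | rfl | rfl | rfl) <;> assumption)
  obtain ⟨r, hr, s, hs, kr, ks, nc⟩ := C.pair_sub (fun t => Commute t x) ha hb hc hd
    (C.B_one ha hb (by rw [ea, eb, B, low_bq_eq C.he hp hq]; exact hB))
    (C.B_one hc hd (by rw [ec, ed]; exact P4))
    ((C.comm_iff hc ha).mpr (by rw [ea, ec]; exact (low p hp).1)).symm
    ((C.comm_iff hd ha).mpr (by rw [ea, ed]; exact (low p hp).2)).symm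
    ((C.comm_iff hc hb).mpr (by rw [eb, ec]; exact (low q hq).1)).symm
    ((C.comm_iff hd hb).mpr (by rw [eb, ed]; exact (low q hq).2)).symm
    (fun u v hu hv nu nv => C.flip_two hx (le hu) (le hv) nu nv)
  exact ⟨r, (le hr).1, s, (le hs).1, kr, ks, nc⟩

/-- An element commuting with all of the fixed part is a displacement. -/
theorem central_disp {x n : G} (hx : Commute x C.z) (x2 : x * x = 1) (x1 : C.σ x ≠ 1) (h0 : C.σ x ∈ X0) (hn : n ∈ C.J)
    (hc : ∀ t ∈ C.flip x hx, Commute n t) : ∃ j ∈ C.J, C.κ n = C.κ (x * j * x * j⁻¹) := by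
  have s2 : C.σ x * C.σ x = 1 := by rw [← C.σ_mul x x hx hx, x2, C.σ_one]
  obtain ⟨-, -, rad⟩ := inner_facts h0 s2 x1
  have perp : ∀ v < 256, pw (C.σ x) (v &&& 63) = v &&& 63 → C.B (C.κ n) v = 0 := by
    intro v hv hf
    obtain ⟨t, ht, et⟩ := C.κ_surj v hv
    rw [← et]
    exact (C.comm_iff hn ht).mp (hc t (C.flip_of_fix hx ht (by rw [et]; exact hf) (Or.inl h0)))
  have l : C.κ n < 64 := high_perp C.e C.he _ (C.κ_lt n hn)
    ((C.B_comm 64 (C.κ n)).trans (perp 64 (by norm_num) (pw_zero _)))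
    ((C.B_comm 128 (C.κ n)).trans (perp 128 (by norm_num) (pw_zero _)))
  obtain ⟨u, hu, eu⟩ := rad (C.κ n) l fun f hf ff => by
    have := perp f (by omega) (by rw [(parts f (by omega)).2.2.2.2.1 hf]; exact ff)
    rw [B, low_bq_eq C.he l hf] at this
    omega
  obtain ⟨j, hj, ej⟩ := C.κ_surj u (by omega)
  refine ⟨j, hj, ?_⟩
  rw [C.disp_κ hx x2 hj (Or.inl h0), ej, (parts u (by omega)).2.2.2.2.1 hu, eu]

/-- The index of the centraliser. -/
theorem CJ_big (g : G) (hx : Commute (g * C.z * g⁻¹) C.z) (x1 : C.σ (g * C.z * g⁻¹) ≠ 1)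
    (h0 : C.σ (g * C.z * g⁻¹) ∈ X0) : 64 ∣ Nat.card (C.CJ g) := by
  classical
  set x := g * C.z * g⁻¹ with hxd
  have x2 : x * x = 1 := by
    rw [hxd, show g * C.z * g⁻¹ * (g * C.z * g⁻¹) = g * (C.z * C.z) * g⁻¹ by group, C.zz]; group
  have s2 : C.σ x * C.σ x = 1 := by rw [← C.σ_mul x x hx hx, x2, C.σ_one]
  obtain ⟨-, ⟨p, hp, q, hq, -, -, -, -, cover⟩, -⟩ := inner_facts h0 s2 x1
  set d1 := p ^^^ pw (C.σ x) p
  set d2 := q ^^^ pw (C.σ x) q
  have l1 : d1 < 256 := U42Act.xlt (by omega) (pw_lt _ _)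
  have l2 : d2 < 256 := U42Act.xlt (by omega) (pw_lt _ _)
  obtain ⟨a, ha, ea⟩ := C.κ_surj d1 l1
  obtain ⟨b, hb, eb⟩ := C.κ_surj d2 l2
  let S : Finset G := {1, C.z, a, a * C.z, b, b * C.z, a * b, a * b * C.z}
  let f : ↥C.J ⧸ (C.CJ g).subgroupOf C.J → S := fun Q => ⟨x * (Q.out : G) * x * (Q.out : G)⁻¹, by
    obtain ⟨j, hj⟩ := Q.out
    obtain ⟨hm, -, -⟩ := C.disp_props hx x2 hj
    have e := C.disp_κ hx x2 hj (Or.inl h0)
    simp only [S, Finset.mem_insert, Finset.mem_singleton]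
    rcases cover _ (parts _ (C.κ_lt j hj)).2.1 with h | h | h | h <;> rw [h] at e
    · rcases (C.κ_ker _ hm).mp e with e | e <;> simp [e]
    · rcases C.κ_eq hm ha (e.trans ea.symm) with e | e <;> simp [e]
    · rcases C.κ_eq hm hb (e.trans eb.symm) with e | e <;> simp [e]
    · rcases C.κ_eq hm (mul_mem ha hb) (e.trans (by rw [C.κ_mul a ha b hb, ea, eb])) with e | e <;> simp [e]⟩
  have finj : Function.Injective f := by
    intro P Q h
    have h' := congrArg (fun s : S => x * s.1) h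
    simp only [f] at h'
    rw [(C.disp_props hx x2 P.out.2).2.1, (C.disp_props hx x2 Q.out.2).2.1] at h'
    rw [← P.out_eq, ← Q.out_eq]
    refine Quotient.sound (QuotientGroup.leftRel_apply.mpr ?_)
    rw [Subgroup.mem_subgroupOf, Subgroup.coe_mul, Subgroup.coe_inv, C.mem_CJ]
    refine ⟨mul_mem (inv_mem P.out.2) Q.out.2, mul_inv_eq_iff_eq_mul.mp ?_⟩
    calc (P.out : G)⁻¹ * (Q.out : G) * x * ((P.out : G)⁻¹ * (Q.out : G))⁻¹
        = (P.out : G)⁻¹ * ((Q.out : G) * x * (Q.out : G)⁻¹) * (P.out : G) := by group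
      _ = x := by rw [← h']; group
  have hi : ((C.CJ g).subgroupOf C.J).index ≤ 8 := by
    refine (Nat.card_le_card_of_injective f finj).trans ?_
    rw [Nat.card_eq_fintype_card, Fintype.card_coe]
    simp only [S]
    repeat' first
      | exact le_of_eq (Finset.card_singleton _)
      | refine (Finset.card_insert_le _ _).trans ?_
      | refine Nat.succ_le_succ ?_
  have hc := Subgroup.card_mul_index ((C.CJ g).subgroupOf C.J)
  rw [C.J_card, Nat.card_congr (Subgroup.subgroupOfEquivOfLe (show C.CJ g ≤ C.J from inf_le_left)).toEquiv] at hc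
  obtain ⟨k, hk, ek⟩ := (Nat.dvd_prime_pow Nat.prime_two).mp (Dvd.intro _ hc : Nat.card (C.CJ g) ∣ 2 ^ 9)
  rw [ek] at hc ⊢
  have : 2 ^ 6 ≤ 2 ^ k := by
    have := Nat.mul_le_mul_left (2 ^ k) hi
    omega
  exact (pow_dvd_pow 2 ((Nat.pow_le_pow_iff_right (by norm_num)).mp this) : 2 ^ 6 ∣ 2 ^ k)

end Setting

end CfsgLib.SixTwoType
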