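/-
An inner conjugate outside the extraspecial group.
-/
import Cfsg.Agent.Lib.SixTwoType.Outside

set_option autoImplicit false
set_option maxRecDepth 100000
set_option maxHeartbeats 1000000
set_option linter.unusedVariables false

namespace CfsgLib.SixTwoType

open U6Rec
open CfsgLib.U42Act (qW bq)

attribute [local irreducible] U6Rec.comp U6Rec.app psi

namespace Setting

variable {G : Type*} [Group G] [Finite G] (C : Setting G)

/-- A second conjugate centralising the involution. -/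
structure Two (g : G) : Prop where
  comm : Commute (g * C.z * g⁻¹) C.z
  ne : g * C.z * g⁻¹ ≠ C.z

variable {C} {g : G} (T : C.Two g)
include T

omit T in
theorem sq_one (g : G) : g * C.z * g⁻¹ * (g * C.z * g⁻¹) = 1 := by
  rw [show g * C.z * g⁻¹ * (g * C.z * g⁻¹) = g * (C.z * C.z) * g⁻¹ by group, C.zz]; group

theorem Two.back : C.Two g⁻¹ := by
  refine ⟨?_, ?_⟩
  · rw [inv_inv]; exact C.frame_z g T.comm
  · rw [inv_inv]; exact C.z_ne_x g T.ne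

theorem Two.notJ : g * C.z * g⁻¹ ∉ C.J := fun h => T.ne (C.no_J g h)

theorem Two.σ_ne : C.σ (g * C.z * g⁻¹) ≠ 1 := fun h => T.notJ ((C.σ_ker _ T.comm).mp h)

theorem Two.y_notJ : g⁻¹ * C.z * g ∉ C.J := by
  have := T.back.notJ
  rwa [inv_inv] at this

theorem Two.y_ne : C.σ (g⁻¹ * C.z * g) ≠ 1 := by
  have := T.back.σ_ne
  rwa [inv_inv] at this

/-- A conjugate in the frame's extraspecial group is the frame's involution. -/
theorem Two.frame_conj {f : G} (h : g⁻¹ * (f * C.z * f⁻¹) * g ∈ C.J) : f * C.z * f⁻¹ = g * C.z * g⁻¹ := by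
  have e : g⁻¹ * (f * C.z * f⁻¹) * g = (g⁻¹ * f) * C.z * (g⁻¹ * f)⁻¹ := by group
  have := C.no_J (g⁻¹ * f) (e ▸ h)
  rw [← e] at this
  calc f * C.z * f⁻¹ = g * (g⁻¹ * (f * C.z * f⁻¹) * g) * g⁻¹ := by group
    _ = _ := by rw [this]

theorem Two.x_frame (k : G) : g⁻¹ * (g * C.z * g⁻¹ * k) * g = C.z * (g⁻¹ * k * g) := by group

/-- An element whose product with the involution is a conjugate is outside the frame's group. -/
theorem Two.out {k f : G} (hk : k ∈ C.CJ g) (k1 : k ≠ 1) (e : g * C.z * g⁻¹ * k = f * C.z * f⁻¹) :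
    g⁻¹ * k * g ∉ C.J ∧ C.Two (g⁻¹ * f) ∧ C.σ (g⁻¹ * k * g) = C.σ ((g⁻¹ * f) * C.z * (g⁻¹ * f)⁻¹) := by
  have hn : g⁻¹ * k * g ∉ C.J := fun h => k1 (by
    have := T.frame_conj (f := f) (by rw [← e, T.x_frame]; exact mul_mem C.zJ h)
    rw [← e, mul_eq_left] at this; exact this)
  have e2 : (g⁻¹ * f) * C.z * (g⁻¹ * f)⁻¹ = C.z * (g⁻¹ * k * g) := by
    rw [show (g⁻¹ * f) * C.z * (g⁻¹ * f)⁻¹ = g⁻¹ * (f * C.z * f⁻¹) * g by group, ← e, T.x_frame]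
  have kc := C.CJ_frame g hk
  refine ⟨hn, ⟨?_, fun h => ?_⟩, ?_⟩
  · rw [e2]; exact (Commute.refl _).mul_left kc
  · rw [e2, mul_eq_left] at h
    exact hn (by rw [h]; exact one_mem _)
  · rw [e2, C.σ_mul _ _ (Commute.refl _) kc, (C.σ_ker _ (Commute.refl _)).mpr C.zJ, one_mul]

theorem Two.σy_inner {a b : G} (ha : a ∈ C.CJ g) (hb : b ∈ C.CJ g) (nc : ¬ Commute a b) :
    C.σ (g⁻¹ * C.z * g) ∈ X0 := by
  have az := C.CJ_frame g ha
  have bz := C.CJ_frame g hb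
  have e := C.noncomm' ((C.mem_CJ g).mp ha).1 ((C.mem_CJ g).mp hb).1 nc
  have e2 : g⁻¹ * C.z * g = (g⁻¹ * a * g) * (g⁻¹ * b * g) * (g⁻¹ * a * g)⁻¹ * (g⁻¹ * b * g)⁻¹ := by
    rw [show g⁻¹ * a * g * (g⁻¹ * b * g) * (g⁻¹ * a * g)⁻¹ * (g⁻¹ * b * g)⁻¹ = g⁻¹ * (a * b * (b * a)⁻¹) * g by group,
      e, mul_inv_cancel_right]
  rw [e2, C.σ_mul _ _ ((az.mul_left bz).mul_left az.inv_left) bz.inv_left, C.σ_inv bz, C.σ_conj az bz]
  exact X0_comm _ _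

theorem Two.inner_y (h0 : C.σ (g * C.z * g⁻¹) ∈ X0) : C.σ (g⁻¹ * C.z * g) ∈ X0 := by
  obtain ⟨a, ha, b, hb, ca, cb, nc⟩ := C.inner_pair T.comm (C.sq_one g) T.σ_ne h0
  exact T.σy_inner ((C.mem_CJ g).mpr ⟨ha, ca⟩) ((C.mem_CJ g).mpr ⟨hb, cb⟩) nc

/-- A singular displacement gives a conjugate. -/
theorem Two.disp_elt {j : G} (hj : j ∈ C.J) (hq : qW C.e (C.κ (g * C.z * g⁻¹ * j * (g * C.z * g⁻¹) * j⁻¹)) ≠ 1) :
    g * C.z * g⁻¹ * j * (g * C.z * g⁻¹) * j⁻¹ ∈ C.CJ g :=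
  (C.mem_CJ g).mpr ⟨(C.disp_props T.comm (C.sq_one g) hj).1, (C.disp_comm T.comm (C.sq_one g) hj hq).1⟩

theorem Two.disp_conj {j : G} (hj : j ∈ C.J) :
    g * C.z * g⁻¹ * (g * C.z * g⁻¹ * j * (g * C.z * g⁻¹) * j⁻¹) = (j * g) * C.z * (j * g)⁻¹ := by
  rw [(C.disp_props T.comm (C.sq_one g) hj).2.1]; group

/-- With an element moving the involution by the centre, the other preimages also give conjugates. -/
theorem Two.disp_conj_z {j c : G} (hj : j ∈ C.J) (hc : c ∈ C.flip _ T.comm) (nc : ¬ Commute c (g * C.z * g⁻¹)) :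
    g * C.z * g⁻¹ * (g * C.z * g⁻¹ * j * (g * C.z * g⁻¹) * j⁻¹ * C.z) = (c * (j * g)) * C.z * (c * (j * g))⁻¹ := by
  set x := g * C.z * g⁻¹ with hx
  set k := x * j * x * j⁻¹ with hk
  have e1 := T.disp_conj hj
  rw [← hx, ← hk] at e1
  have ck := C.flip_disp T.comm hc hj
  rw [show (c * (j * g)) * C.z * (c * (j * g))⁻¹ = c * ((j * g) * C.z * (j * g)⁻¹) * c⁻¹ by group, ← e1,
    show c * (x * k) * c⁻¹ = (c * x * c⁻¹) * (c * k * c⁻¹) by group, (C.flip_cases T.comm hc).resolve_left nc, ck.eq,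
    mul_inv_cancel_right, (C.Jz k (C.disp_props T.comm (C.sq_one g) hj).1).eq, ← mul_assoc]

/-- Kernel elements commute with all of the fixed part. -/
theorem Two.ker_flip {n : G} (hn : n ∈ C.CJ g) (hnJ : g⁻¹ * n * g ∈ C.J) (hnf : ∀ c ∈ C.flip _ T.comm,
    ¬ Commute c (g * C.z * g⁻¹) → ∃ c' ∈ C.flip _ T.comm, ¬ Commute c' (g * C.z * g⁻¹) ∧ Commute n c') :
    ∀ t ∈ C.flip _ T.comm, Commute n t := by
  intro t ht
  have cen := C.ker_central g T.comm T.y_notJ hn hnJ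
  by_cases h : Commute t (g * C.z * g⁻¹)
  · exact cen t ((C.mem_CJ g).mpr ⟨ht.1, h⟩)
  · obtain ⟨c', hc', nc', cc⟩ := hnf t ht h
    have := (cen (t * c') ((C.mem_CJ g).mpr ⟨mul_mem ht.1 hc'.1, C.flip_two T.comm ht hc' h nc'⟩)).mul_right cc.inv_right
    rwa [mul_inv_cancel_right] at this

/-- Kernel elements are displacements. -/
theorem Two.ker_disp (h0 : C.σ (g * C.z * g⁻¹) ∈ X0) {n : G} (hn : n ∈ C.CJ g) (hnJ : g⁻¹ * n * g ∈ C.J) (n1 : n ≠ 1)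
    (hnf : ∀ c ∈ C.flip _ T.comm, ¬ Commute c (g * C.z * g⁻¹) →
      ∃ c' ∈ C.flip _ T.comm, ¬ Commute c' (g * C.z * g⁻¹) ∧ Commute n c') :
    ∃ j ∈ C.J, n = g * C.z * g⁻¹ * j * (g * C.z * g⁻¹) * j⁻¹ * C.z ∧
      g * C.z * g⁻¹ * j * (g * C.z * g⁻¹) * j⁻¹ ∈ C.CJ g := by
  obtain ⟨j, hj, e⟩ := C.central_disp T.comm (C.sq_one g) T.σ_ne h0 ((C.mem_CJ g).mp hn).1 (T.ker_flip hn hnJ hnf)
  set k := g * C.z * g⁻¹ * j * (g * C.z * g⁻¹) * j⁻¹ with hk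
  have kJ := (C.disp_props T.comm (C.sq_one g) hj).1
  rcases C.κ_eq ((C.mem_CJ g).mp hn).1 kJ e with h | h
  · refine absurd hnJ (T.out (f := j * g) hn n1 ?_).1
    rw [h]; exact T.disp_conj hj
  · refine ⟨j, hj, h, ?_⟩
    have : g * C.z * g⁻¹ * j * (g * C.z * g⁻¹) * j⁻¹ = n * C.z := by rw [h, mul_assoc _ C.z C.z, C.zz, mul_one]
    rw [this]
    exact mul_mem hn (C.z_CJ g T.comm)

/-- A trivial kernel is impossible for an inner conjugate. -/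
theorem Two.trivial_ker (h0 : C.σ (g * C.z * g⁻¹) ∈ X0)
    (triv : ∀ n ∈ C.CJ g, g⁻¹ * n * g ∈ C.J → n = 1) : False := by
  classical
  set x := g * C.z * g⁻¹ with hxd
  have s2 : C.σ x * C.σ x = 1 := by rw [← C.σ_mul x x T.comm T.comm, C.sq_one g, C.σ_one]
  obtain ⟨-, ⟨p, hp, q, hq, d0, dq, -, -, -⟩, -⟩ := inner_facts h0 s2 T.σ_ne
  obtain ⟨j, hj, ej⟩ := C.κ_surj p (by omega)
  have hκ : C.κ (x * j * x * j⁻¹) = p ^^^ pw (C.σ x) p := by
    rw [C.disp_κ T.comm (C.sq_one g) hj (Or.inl h0), ej, (parts p (by omega)).2.2.2.2.1 hp]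
  have hq' : qW C.e (C.κ (x * j * x * j⁻¹)) ≠ 1 := by
    rw [hκ, (qW_split C.e C.he _ (U42Act.xlt (by omega) (pw_lt _ _))).2.2.2.1
      (Nat.xor_lt_two_pow (n := 6) hp (pw_six _ hp)), dq]
    norm_num
  set k := x * j * x * j⁻¹ with hk
  have kC := T.disp_elt hj hq'
  have zC := C.z_CJ g T.comm
  have inj : Function.Injective (C.frameHom g) := by
    rw [← MonoidHom.ker_eq_bot_iff, eq_bot_iff]
    intro n hn
    exact Subgroup.mem_bot.mpr (Subtype.ext (triv n.1 n.2 ((C.frame_ker g n.2).mp hn)))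
  have hc : Nat.card (C.Im g) = Nat.card (C.CJ g) := (Nat.card_congr (MonoidHom.ofInjective inj).toEquiv).symm
  let F : G → XG := fun t => C.σ (g⁻¹ * t * g)
  have Feq : ∀ {a b}, (ha : a ∈ C.CJ g) → (hb : b ∈ C.CJ g) → F a * F b = F (a * b) := fun {a b} ha hb => by
    simp only [F]; rw [frame_mul, C.σ_mul _ _ (C.CJ_frame g ha) (C.CJ_frame g hb)]
  have Fne : ∀ {a}, a ∈ C.CJ g → a ≠ 1 → F a ≠ 1 := fun {a} ha h e => h (triv a ha ((C.frame_ker g ha).mp e))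
  have F1 : F 1 = 1 := by simp only [F, mul_one, inv_mul_cancel]; exact C.σ_one
  have k1 : k ≠ 1 := fun h => d0 (by rw [← hκ, h, C.κ_one])
  have kz1 : C.z * k ≠ 1 := fun h => d0 (by
    rw [← hκ, show k = C.z⁻¹ by rw [← one_mul C.z⁻¹, ← h]; rw [C.z_inv]; rw [mul_assoc, (C.Jz k (C.disp_props T.comm
      (C.sq_one g) hj).1).eq, ← mul_assoc, C.zz, one_mul], C.z_inv, C.κ_z])
  refine no_central_pair (C.Im g) (C.Im_pGroup g) (hc ▸ C.CJ_big g T.comm T.σ_ne h0) (a := F C.z) (b := F k)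
    (C.Im_mem g zC) (C.Im_mem g kC) (T.inner_y h0) ?_ ?_ (Fne zC C.z1) (Fne kC k1) ?_ ?_ ?_ ?_
  · rw [Feq zC zC, C.zz, F1]
  · rw [Feq kC kC, (C.disp_comm T.comm (C.sq_one g) hj hq').2, F1]
  · intro e
    refine Fne (mul_mem zC kC) kz1 ?_
    rw [← Feq zC kC, e, Feq kC kC, (C.disp_comm T.comm (C.sq_one g) hj hq').2, F1]
  · intro P hP
    obtain ⟨t, ht, rfl⟩ := (C.mem_Im g).mp hP
    show F t * F k = F k * F t
    rw [Feq ht kC, Feq kC ht]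
    obtain ⟨tJ, tx⟩ := (C.mem_CJ g).mp ht
    have tf : t ∈ C.flip x T.comm := ⟨tJ, by rw [tx.eq.symm, mul_inv_cancel_right]⟩
    rw [(C.flip_disp T.comm tf hj).eq]
  · intro P hP
    obtain ⟨t, ht, rfl⟩ := (C.mem_Im g).mp hP
    show F t * F C.z = F C.z * F t
    rw [Feq ht zC, Feq zC ht, (C.Jz t ((C.mem_CJ g).mp ht).1).eq]
  · intro P hP Q hQ
    obtain ⟨a, ha, rfl⟩ := (C.mem_Im g).mp hP
    obtain ⟨b, hb, rfl⟩ := (C.mem_Im g).mp hQ
    show F a * F b = F b * F a ∨ F a * F b = F C.z * (F b * F a)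
    rw [Feq ha hb, Feq hb ha, Feq zC (mul_mem hb ha)]
    rcases C.comm_or ((C.mem_CJ g).mp ha).1 ((C.mem_CJ g).mp hb).1 with h | h
    · exact Or.inl (by rw [h.eq])
    · exact Or.inr (by rw [h])

/-- An inner conjugate is of the first kind. -/
theorem Two.kindA (h0 : C.σ (g * C.z * g⁻¹) ∈ X0) : KindA (C.σ (g * C.z * g⁻¹)) := by
  by_contra hk
  set x := g * C.z * g⁻¹ with hxd
  obtain ⟨v, hv, hvq⟩ : ∃ v < 64, qW 0 (v ^^^ pw (C.σ x) v) = 1 := by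
    by_contra h
    refine hk fun v hv => ?_
    have := (qW_split 0 (by norm_num) _ (U42Act.xlt (show v < 256 by omega) (pw_lt (C.σ x) v))).2.2.1
    push Not at h
    have := h v hv
    omega
  obtain ⟨j, hj, ej⟩ := C.κ_surj v (by omega)
  have hq : qW C.e (C.κ (x * j * x * j⁻¹)) = 1 := by
    rw [C.disp_κ T.comm (C.sq_one g) hj (Or.inl h0), ej, (parts v (by omega)).2.2.2.2.1 hv,
      (qW_split C.e C.he _ (U42Act.xlt (by omega) (pw_lt _ _))).2.2.2.1 (Nat.xor_lt_two_pow (n := 6) hv (pw_six _ hv)),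
      hvq]
  obtain ⟨cf, cn⟩ := C.disp_move T.comm (C.sq_one g) hj hq
  refine T.trivial_ker h0 fun n hn hnJ => ?_
  by_contra n1
  have nf : n ∈ C.flip x T.comm := ⟨((C.mem_CJ g).mp hn).1, by
    rw [((C.mem_CJ g).mp hn).2.eq.symm, mul_inv_cancel_right]⟩
  obtain ⟨i, hi, e, -⟩ := T.ker_disp h0 hn hnJ n1 fun c _ _ => ⟨_, cf, cn, C.flip_disp T.comm nf hj⟩
  exact (T.out hn n1 (by rw [e]; exact T.disp_conj_z hi cf cn)).1 hnJ

/-- An inner conjugate has no moving element in the fixed part. -/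
theorem Two.no_move (h0 : C.σ (g * C.z * g⁻¹) ∈ X0) : ∀ c ∈ C.flip _ T.comm, Commute c (g * C.z * g⁻¹) := by
  classical
  intro c hc
  by_contra nc
  have hA := T.kindA h0
  set x := g * C.z * g⁻¹ with hxd
  have x2 := C.sq_one g
  have s2 : C.σ x * C.σ x = 1 := by rw [← C.σ_mul x x T.comm T.comm, x2, C.σ_one]
  obtain ⟨-, ⟨p, hp, q, hq, d0, -, e0, ne, -⟩, -⟩ := inner_facts h0 s2 T.σ_ne
  obtain ⟨i, hi, ei⟩ := C.κ_surj p (by omega)
  obtain ⟨j, hj, ej⟩ := C.κ_surj q (by omega)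
  have hκ : ∀ {t v}, t ∈ C.J → C.κ t = v → v < 64 → C.κ (x * t * x * t⁻¹) = v ^^^ pw (C.σ x) v := by
    intro t v ht et hv
    rw [C.disp_κ T.comm x2 ht (Or.inl h0), et, (parts v (by omega)).2.2.2.2.1 hv]
  have hsing : ∀ {t v}, t ∈ C.J → C.κ t = v → v < 64 → qW C.e (C.κ (x * t * x * t⁻¹)) ≠ 1 := by
    intro t v ht et hv
    rw [hκ ht et hv, (qW_split C.e C.he _ (U42Act.xlt (by omega) (pw_lt _ _))).2.2.2.1
      (Nat.xor_lt_two_pow (n := 6) hv (pw_six _ hv)), hA v hv]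
    norm_num
  -- an element with inner image
  have main : ∀ k t : G, k ∈ C.CJ g → t ∈ C.J → C.κ k = C.κ (x * t * x * t⁻¹) → C.κ k ≠ 0 →
      C.σ (g⁻¹ * k * g) ∈ X0 → False := by
    intro k t hk ht e hk0 hkin
    have kJ := ((C.mem_CJ g).mp hk).1
    have k1 : k ≠ 1 := fun h => hk0 (by rw [h, C.κ_one])
    have kzC := mul_mem hk (C.z_CJ g T.comm)
    have kz1 : k * C.z ≠ 1 := fun h => hk0 (by rw [← C.κ_mul_z kJ, h, C.κ_one])
    obtain ⟨⟨f1, h1⟩, ⟨f2, h2⟩⟩ : (∃ f, x * k = f * C.z * f⁻¹) ∧ ∃ f, x * (k * C.z) = f * C.z * f⁻¹ := by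
      rcases C.κ_eq kJ (C.disp_props T.comm x2 ht).1 e with e' | e'
      · exact ⟨⟨_, e' ▸ T.disp_conj ht⟩, ⟨_, e' ▸ T.disp_conj_z ht hc nc⟩⟩
      · refine ⟨⟨_, e' ▸ T.disp_conj_z ht hc nc⟩, ⟨t * g, ?_⟩⟩
        rw [e', mul_assoc (x * t * x * t⁻¹), C.zz, mul_one]; exact T.disp_conj ht
    obtain ⟨-, T1, e1⟩ := T.out hk k1 h1
    obtain ⟨-, T2, e2⟩ := T.out kzC kz1 h2
    set a := C.σ (g⁻¹ * C.z * g)
    set b := C.σ (g⁻¹ * k * g)
    have a0 := T.inner_y h0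
    have yz := C.frame_z g T.comm
    have kc := C.CJ_frame g hk
    have prod : C.σ (g⁻¹ * (k * C.z) * g) = a * b := by
      rw [(C.Jz k kJ).eq, frame_mul, C.σ_mul _ _ yz kc]
    refine no_triple a0 hkin ?_ ?_ T.y_ne (fun h => (T.out hk k1 h1).1 ((C.σ_ker _ kc).mp h)) ?_ ?_ ?_ ?_ ?_
    · rw [← C.σ_mul _ _ yz yz, ← frame_mul, C.zz, mul_one, inv_mul_cancel, C.σ_one]
    · have k2 := C.sq k kJ
      rw [if_neg (by
        obtain ⟨m, hm, em⟩ : ∃ m < 64, pw (C.σ x) m ^^^ m = C.κ k := by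
          refine ⟨C.κ t &&& 63, (parts _ (C.κ_lt t ht)).2.1, ?_⟩
          rw [e, C.disp_κ T.comm x2 ht (Or.inl h0), Nat.xor_comm]
        rw [← em, Nat.xor_comm, (qW_split C.e C.he _ (U42Act.xlt (by omega) (pw_lt _ _))).2.2.2.1
          (Nat.xor_lt_two_pow (n := 6) hm (pw_six _ hm)), hA m hm]
        norm_num)] at k2
      rw [← C.σ_mul _ _ kc kc, ← frame_mul, k2, mul_one, inv_mul_cancel, C.σ_one]
    · intro hab
      refine (T.out kzC kz1 h2).1 ((C.σ_ker _ (C.CJ_frame g kzC)).mp ?_)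
      rw [prod, ← hab, ← C.σ_mul _ _ yz yz, ← frame_mul, C.zz, mul_one, inv_mul_cancel, C.σ_one]
    · show a * b = b * a
      rw [← C.σ_mul _ _ yz kc, ← C.σ_mul _ _ kc yz, ← frame_mul, ← frame_mul, (C.Jz k kJ).eq]
    · have := T.back.kindA (by rw [inv_inv]; exact a0)
      rw [inv_inv] at this; exact this
    · have := T1.kindA (e1 ▸ hkin)
      rwa [← e1] at this
    · have := T2.kindA (e2 ▸ (prod ▸ X0.mul_mem a0 hkin))
      rwa [← e2, prod] at this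
  have ki := T.disp_elt hi (hsing hi ei hp)
  have kj := T.disp_elt hj (hsing hj ej hq)
  by_cases hin : C.σ (g⁻¹ * (x * i * x * i⁻¹) * g) ∈ X0
  · exact main _ i ki hi rfl (by rw [hκ hi ei hp]; exact d0) hin
  by_cases hjn : C.σ (g⁻¹ * (x * j * x * j⁻¹) * g) ∈ X0
  · exact main _ j kj hj rfl (by rw [hκ hj ej hq]; exact e0) hjn
  have eij : C.κ (x * i * x * i⁻¹ * (x * j * x * j⁻¹)) = C.κ (x * (i * j) * x * (i * j)⁻¹) := by
    rw [C.κ_mul _ (C.disp_props T.comm x2 hi).1 _ (C.disp_props T.comm x2 hj).1, hκ hi ei hp, hκ hj ej hq,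
      hκ (v := p ^^^ q) (mul_mem hi hj) (by rw [C.κ_mul i hi j hj, ei, ej]) (Nat.xor_lt_two_pow (n := 6) hp hq), pw_add]
    ac_rfl
  refine main _ (i * j) (mul_mem ki kj) (mul_mem hi hj) eij ?_ ?_
  · rw [C.κ_mul _ (C.disp_props T.comm x2 hi).1 _ (C.disp_props T.comm x2 hj).1, hκ hi ei hp, hκ hj ej hq]
    exact fun h => ne (U42Act.xzero h).symm
  · rw [frame_mul, C.σ_mul _ _ (C.CJ_frame g ki) (C.CJ_frame g kj)]
    exact X0_two hin hjn

end Setting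

end CfsgLib.SixTwoType
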