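/-
The involution is isolated.
-/
import Cfsg.Agent.Lib.SixTwoType.Contra

set_option autoImplicit false
set_option maxRecDepth 100000
set_option maxHeartbeats 1000000
set_option linter.unusedVariables false

namespace CfsgLib.SixTwoType

open U6Rec
open CfsgLib.U42Act (qW bq)

attribute [local irreducible] U6Rec.comp U6Rec.app psi

namespace Setting

variable {G : Type*} [Group G] [Finite G] (C : Setting G)

variable {C} {g : G} (T : C.Two g)
include T

/-- There is no inner conjugate. -/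
theorem Two.not_inner : C.σ (g * C.z * g⁻¹) ∉ X0 := by
  intro h0
  have hmove := T.no_move h0
  refine T.trivial_ker h0 fun n hn hnJ => ?_
  by_contra n1
  have hy0 := T.inner_y h0
  set x := g * C.z * g⁻¹ with hxd
  set y := g⁻¹ * C.z * g with hyd
  have x2 := C.sq_one g
  obtain ⟨j0, hj0, en, kC⟩ := T.ker_disp h0 hn hnJ n1 fun c hc nc => absurd (hmove c hc) nc
  -- a representative in the six-space
  obtain ⟨j, hj, ej⟩ := C.κ_surj (C.κ j0 &&& 63) (by have := (parts _ (C.κ_lt j0 hj0)).2.1; omega)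
  have jlow : C.κ j < 64 := ej ▸ (parts _ (C.κ_lt j0 hj0)).2.1
  set c := x * j * x * j⁻¹ with hc
  have cJ := (C.disp_props T.comm x2 hj).1
  have hn' := ((C.mem_CJ g).mp hn).1
  have eκ : C.κ n = C.κ c := by
    rw [en, C.κ_mul_z (C.disp_props T.comm x2 hj0).1, C.disp_κ T.comm x2 hj0 (Or.inl h0),
      C.disp_κ T.comm x2 hj (Or.inl h0), ej, (parts _ (by
        have := (parts _ (C.κ_lt j0 hj0)).2.1; omega)).2.2.2.2.1 (parts _ (C.κ_lt j0 hj0)).2.1]
  have nc : n = c * C.z := by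
    rcases C.κ_eq hn' cJ eκ with h | h
    · exact absurd hnJ (T.out (f := j * g) hn n1 (by rw [h]; exact T.disp_conj hj)).1
    · exact h
  have cC : c ∈ C.CJ g := by
    have : c = n * C.z := by rw [nc, mul_assoc, C.zz, mul_one]
    rw [this]; exact mul_mem hn (C.z_CJ g T.comm)
  -- the other frame
  have Tb := T.back
  have hy0' : C.σ (g⁻¹ * C.z * g⁻¹⁻¹) ∈ X0 := by rw [inv_inv]; exact hy0
  have hmove' := Tb.no_move hy0'
  have n'C : g⁻¹ * n * g ∈ C.CJ g⁻¹ := by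
    refine (C.mem_CJ _).mpr ⟨hnJ, ?_⟩
    rw [inv_inv]
    have := (C.Jz n hn').map (MulAut.conj g⁻¹).toMonoidHom
    simpa [MulAut.conj_apply] using this
  have n'J : g⁻¹⁻¹ * (g⁻¹ * n * g) * g⁻¹ ∈ C.J := by
    rw [show g⁻¹⁻¹ * (g⁻¹ * n * g) * g⁻¹ = n by group]; exact hn'
  have n'1 : g⁻¹ * n * g ≠ 1 := fun h => n1 (by rw [show n = g * (g⁻¹ * n * g) * g⁻¹ by group, h]; group)
  obtain ⟨i, hi, en', -⟩ := Tb.ker_disp hy0' n'C n'J n'1 fun c hc nc => absurd (hmove' c hc) nc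
  have ewy : g⁻¹ * C.z * g⁻¹⁻¹ * (g⁻¹ * n * g * C.z) = (i * g⁻¹) * C.z * (i * g⁻¹)⁻¹ := by
    rw [← Tb.disp_conj hi, en', mul_assoc _ C.z C.z, C.zz, mul_one]
  rw [inv_inv] at ewy
  set w := x * c with hw
  have jw : j * x * j⁻¹ = w := (C.disp_props T.comm x2 hj).2.1.symm
  set j' := g * i * g⁻¹ with hj'
  have xn : Commute n x := ((C.mem_CJ g).mp hn).2
  have xc : Commute c x := ((C.mem_CJ g).mp cC).2
  have j'z : j' * C.z * j'⁻¹ = w := by
    rw [hj', show g * i * g⁻¹ * C.z * (g * i * g⁻¹)⁻¹ = g * ((i * g⁻¹) * C.z * (i * g⁻¹)⁻¹) * g⁻¹ by group, ← ewy,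
      show g * (g⁻¹ * C.z * g * (g⁻¹ * n * g * C.z)) * g⁻¹ = C.z * n * (g * C.z * g⁻¹) by group, ← hxd, nc,
      (C.Jz c cJ).eq, ← mul_assoc C.z C.z c, C.zz, one_mul, hw, xc.eq]
  have ii : Commute (i * i) (g⁻¹ * C.z * g) := by
    have yz : Commute (g⁻¹ * C.z * g) C.z := C.frame_z g T.comm
    have : i * i = 1 ∨ i * i = C.z := by rw [C.sq i hi]; split <;> simp
    rcases this with h | h <;> rw [h]
    · exact Commute.one_left _
    · exact yz.symm
  have j'z' : j'⁻¹ * C.z * j' = w := by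
    rw [← j'z, hj']
    have e : i⁻¹ * (g⁻¹ * C.z * g) * i = i * (g⁻¹ * C.z * g) * i⁻¹ := by
      calc i⁻¹ * (g⁻¹ * C.z * g) * i = i⁻¹ * ((g⁻¹ * C.z * g) * (i * i)) * i⁻¹ := by group
        _ = i⁻¹ * ((i * i) * (g⁻¹ * C.z * g)) * i⁻¹ := by rw [ii.eq]
        _ = _ := by group
    calc (g * i * g⁻¹)⁻¹ * C.z * (g * i * g⁻¹) = g * (i⁻¹ * (g⁻¹ * C.z * g) * i) * g⁻¹ := by group
      _ = g * (i * (g⁻¹ * C.z * g) * i⁻¹) * g⁻¹ := by rw [e]
      _ = _ := by group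
  -- an element of the second plane
  obtain ⟨r, hr, er⟩ := C.κ_surj 64 (by norm_num)
  have rf : r ∈ C.flip x T.comm := C.flip_of_fix T.comm hr (by rw [er]; exact pw_zero _) (Or.inl h0)
  have rx := hmove r rf
  have rc : Commute r c := C.flip_disp T.comm rf hj
  have rj : Commute r j := (C.comm_iff hr hj).mpr (by rw [er]; exact (plane_low C.e C.he _ jlow).1)
  have rw' : Commute r w := rx.mul_right rc
  have rC : r ∈ C.CJ g := (C.mem_CJ g).mpr ⟨hr, rx⟩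
  have rg := C.CJ_frame g rC
  set m := j' * r * j'⁻¹ * r⁻¹ with hm
  have mz : Commute m C.z := by
    have h1 : Commute (j' * r * j'⁻¹) C.z := by
      have := rw'.map (MulAut.conj j').toMonoidHom
      rw [← j'z'] at this
      simpa [MulAut.conj_apply, mul_assoc] using this
    exact h1.mul_left (C.Jz r hr).inv_left
  have mJ : g⁻¹ * m * g ∈ C.J := by
    rw [hm, hj', show g⁻¹ * (g * i * g⁻¹ * r * (g * i * g⁻¹)⁻¹ * r⁻¹) * g =
      i * ((g⁻¹ * r * g) * i⁻¹ * (g⁻¹ * r * g)⁻¹) by group]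
    exact mul_mem hi (C.conjJ _ rg _ (inv_mem hi))
  set q := j⁻¹ * m * j * m⁻¹ with hq
  have qJ : q ∈ C.J := by
    rw [hq, mul_assoc j⁻¹, mul_assoc j⁻¹]
    exact mul_mem (inv_mem hj) (C.conjJ m mz j hj)
  have qlow : C.κ q < 64 := by
    rw [hq, show j⁻¹ * m * j * m⁻¹ = j⁻¹ * (m * j * m⁻¹) by group, C.κ_mul _ (inv_mem hj) _ (C.conjJ m mz j hj),
      C.κ_inv hj]
    exact Nat.xor_lt_two_pow (n := 6) jlow (C.κ_low m mz j hj jlow)
  set t := j⁻¹ * j' with ht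
  have eρ : t * r * t⁻¹ = q * m * r := by
    rw [ht, show j⁻¹ * j' * r * (j⁻¹ * j')⁻¹ = j⁻¹ * (j' * r * j'⁻¹) * j by group,
      show j' * r * j'⁻¹ = m * r by rw [hm]; group, show j⁻¹ * (m * r) * j = j⁻¹ * m * (r * j) by group, rj.eq, hq]
    group
  have tz : t * C.z * t⁻¹ = x := by
    rw [ht, show j⁻¹ * j' * C.z * (j⁻¹ * j')⁻¹ = j⁻¹ * (j' * C.z * j'⁻¹) * j by group, j'z, ← jw]; group
  have hcm : Commute (g⁻¹ * t) C.z := by
    refine mul_inv_eq_iff_eq_mul.mp ?_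
    rw [show g⁻¹ * t * C.z * (g⁻¹ * t)⁻¹ = g⁻¹ * (t * C.z * t⁻¹) * g by group, tz, hxd]; group
  have ρJ : g⁻¹ * (t * r * t⁻¹) * g ∈ C.J := by
    rw [show g⁻¹ * (t * r * t⁻¹) * g = (g⁻¹ * t) * r * (g⁻¹ * t)⁻¹ by group]
    exact C.conjJ _ hcm r hr
  have qC : q ∈ C.CJ g := by
    refine (C.mem_CJ g).mpr ⟨qJ, ?_⟩
    rw [show q = (t * r * t⁻¹) * r⁻¹ * m⁻¹ by rw [eρ]; group]
    exact ((C.mem_frame.mpr (C.Jz _ ρJ)).mul_left rx.inv_left).mul_left (C.mem_frame.mpr (C.Jz _ mJ)).inv_left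
  have qg := C.CJ_frame g qC
  have ker : g⁻¹ * (q * r) * g ∈ C.J := by
    rw [frame_mul]
    refine (C.σ_ker _ (qg.mul_left rg)).mp ?_
    have h1 := (C.σ_ker _ (C.Jz _ ρJ)).mpr ρJ
    rw [eρ, frame_mul, frame_mul, C.σ_mul _ _ (qg.mul_left (C.Jz _ mJ)) rg, C.σ_mul _ _ qg (C.Jz _ mJ),
      (C.σ_ker _ (C.Jz _ mJ)).mpr mJ, mul_one] at h1
    rw [C.σ_mul _ _ qg rg, h1]
  have h64 : C.κ (q * r) < 64 := by
    by_cases h : q * r = 1
    · rw [h, C.κ_one]; norm_num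
    obtain ⟨i', hi', e, -⟩ := T.ker_disp h0 (mul_mem qC rC) ker h fun c hc nc => absurd (hmove c hc) nc
    rw [e, C.κ_mul_z (C.disp_props T.comm x2 hi').1, C.disp_κ T.comm x2 hi' (Or.inl h0)]
    exact Nat.xor_lt_two_pow (n := 6) (parts _ (C.κ_lt i' hi')).2.1 (pw_six _ (parts _ (C.κ_lt i' hi')).2.1)
  rw [C.κ_mul q qJ r hr, er] at h64
  have := Nat.xor_lt_two_pow (n := 6) h64 qlow
  rw [Nat.xor_comm (C.κ q), Nat.xor_assoc, Nat.xor_self, Nat.xor_zero] at this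
  norm_num at this

/-- There is no outer conjugate either. -/
theorem Two.false : False := by
  set x := g * C.z * g⁻¹ with hxd
  have x2 := C.sq_one g
  have h0 := T.not_inner
  have s2 : C.σ x * C.σ x = 1 := by rw [← C.σ_mul x x T.comm T.comm, x2, C.σ_one]
  obtain ⟨⟨v, hv, hvq⟩, alt⟩ := outer_facts h0 s2
  obtain ⟨j, hj, ej⟩ := C.κ_surj v (by omega)
  have hκ : ∀ {t u}, t ∈ C.J → C.κ t = u → u < 64 → C.κ (x * t * x * t⁻¹) = u ^^^ pw (C.σ x) u := by
    intro t u ht et hu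
    rw [C.disp_κ T.comm x2 ht (Or.inr (by omega)), et, (parts u (by omega)).2.2.2.2.1 hu]
  have hq : ∀ {t u}, t ∈ C.J → C.κ t = u → u < 64 →
      qW C.e (C.κ (x * t * x * t⁻¹)) = qW 0 (u ^^^ pw (C.σ x) u) := by
    intro t u ht et hu
    rw [hκ ht et hu, (qW_split C.e C.he _ (U42Act.xlt (by omega) (pw_lt _ _))).2.2.2.1
      (Nat.xor_lt_two_pow (n := 6) hu (pw_six _ hu))]
  obtain ⟨cf, cn⟩ := C.disp_move T.comm x2 hj ((hq hj ej hv).trans hvq)
  have hy : C.σ (g⁻¹ * C.z * g) ∉ X0 := by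
    have := T.back.not_inner
    rwa [inv_inv] at this
  set d := x * j * x * j⁻¹
  rcases alt with ⟨p, hp, q, hq', fp, fq, hB⟩ | ⟨u, hu, hu0, hu1⟩
  · obtain ⟨a, ha, ea⟩ := C.κ_surj p (by omega)
    obtain ⟨b, hb, eb⟩ := C.κ_surj q (by omega)
    have fa := C.flip_of_fix T.comm ha (by rw [ea, (parts p (by omega)).2.2.2.2.1 hp, fp]) (Or.inr (by omega))
    have fb := C.flip_of_fix T.comm hb (by rw [eb, (parts q (by omega)).2.2.2.2.1 hq', fq]) (Or.inr (by omega))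
    have nab := C.B_one ha hb (by rw [ea, eb, B, low_bq_eq C.he hp hq']; exact hB)
    have ad := C.flip_disp T.comm fa hj
    have bd := C.flip_disp T.comm fb hj
    have fix : ∀ {t}, t ∈ C.flip x T.comm → Commute t d → ∃ t' ∈ C.CJ g, t' = t ∨ t' = t * d := fun {t} ht td => by
      by_cases h : Commute t x
      · exact ⟨t, (C.mem_CJ g).mpr ⟨ht.1, h⟩, Or.inl rfl⟩
      · exact ⟨t * d, (C.mem_CJ g).mpr ⟨mul_mem ht.1 cf.1, C.flip_two T.comm ht cf h cn⟩, Or.inr rfl⟩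
    obtain ⟨a', ha', ea'⟩ := fix fa ad
    obtain ⟨b', hb', eb'⟩ := fix fb bd
    refine hy (T.σy_inner ha' hb' fun h => nab ?_)
    rcases ea' with rfl | rfl <;> rcases eb' with rfl | rfl
    · exact h
    · have := h.mul_right ad.inv_right
      rwa [mul_inv_cancel_right] at this
    · have := h.mul_left bd.symm.inv_left
      rwa [mul_inv_cancel_right] at this
    · have h1 : Commute (a * d) d := ad.mul_left (Commute.refl d)
      have := h.mul_right h1.inv_right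
      rw [mul_inv_cancel_right] at this
      have := this.mul_left bd.symm.inv_left
      rwa [mul_inv_cancel_right] at this
  · obtain ⟨i, hi, ei⟩ := C.κ_surj u (by omega)
    have hs : qW C.e (C.κ (x * i * x * i⁻¹)) ≠ 1 := by rw [hq hi ei hu, hu1]; norm_num
    have kC := T.disp_elt hi hs
    set k := x * i * x * i⁻¹ with hk
    have kJ := ((C.mem_CJ g).mp kC).1
    have k1 : k ≠ 1 := fun h => hu0 (by rw [← hκ hi ei hu, ← hk, h, C.κ_one])
    have kzC := mul_mem kC (C.z_CJ g T.comm)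
    have kz1 : k * C.z ≠ 1 := fun h => hu0 (by rw [← hκ hi ei hu, ← hk, ← C.κ_mul_z kJ, h, C.κ_one])
    obtain ⟨-, T1, e1⟩ := T.out kC k1 (T.disp_conj hi)
    obtain ⟨-, T2, e2⟩ := T.out kzC kz1 (T.disp_conj_z hi cf cn)
    refine T2.not_inner ?_
    rw [← e2, frame_mul, C.σ_mul _ _ (C.CJ_frame g kC) (C.frame_z g T.comm)]
    exact X0_two (e1 ▸ T1.not_inner) hy

omit T in
variable (C) in
/-- The involution is isolated. -/
theorem isolated (f : G) (h : Commute (f * C.z * f⁻¹) C.z) : f * C.z * f⁻¹ = C.z := by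
  by_contra hne
  exact (Two.false (C := C) (g := f) ⟨h, hne⟩)

end Setting

end CfsgLib.SixTwoType
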