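/-
Every isometry of the six-space comes from the extended unitary group.
-/
import Cfsg.Agent.Lib.SixTwoType.Local

set_option autoImplicit false
set_option maxRecDepth 100000
set_option linter.unusedVariables false

namespace CfsgLib.SixTwoType

open U6Rec
open CfsgLib.U42Act (qW bq)
open CfsgLib.Fi22Cent (InX sigC)

/-- Elements fixing the earlier basis vectors, with their six-space codes. -/
def isoL : List (List (ℕ × ℕ)) :=
  [
   [(9241421688590303745, 9241421688590303745), (3032481954265970478, 9241404233843213058), (18060941892215969844, 9241439349495824643), (4045458376862275636, 9241439349395098628), (7626576614440843054, 9241404233742484488), (9241635550065525249, 9241421688489576460), (7626576615997238166, 9241395283030646800), (2106531918410469552, 9241431533160969493), (12679145490416213028, 9241427345414553878), (4545767295343601211, 9241404186950899223), (13853270167465100033, 9241444778587331865), (2310373224061186144, 9241420555309750554), (13537006998438639513, 9241389859513240603), (2106531916856224662, 9241449160110976285), (13853336680431682305, 9241455773703937310), (6843614208997872115, 9241437026508029727), (9241635549824262224,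 9241399646717423648), (3185276000169260953, 9241390958352142373), (13853075756873543760, 9241433731933611302), (6820571680827266216, 9241432628729163559), (2106531916856167432, 9241409663187496233), (6820571680979712671, 9241429351669115178), (13853075760065459153, 9241428230080507691), (1744268070159202340, 9241399858181386285), (6843614211742748297, 9241420658387660078), (3185201779950843801, 9241389858840842287), (4045458375041836765, 9241390867804262448), (13853270165895376976, 9241413940722148661), (12321773666189295319, 9241449369875527478), (1814597532193924667, 9241389893537439799), (2106531918410430254, 9241418528404223289), (4045384980505650909, 9241410659015135290), (5083384500735780411, 9241395494141311547), (6172851402280564633, 9241439389009709117), (6843614208997865262, 9241418528319684414), (13853336682053874641, 9241419433985650495)],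
   [(9241421688590303745, 9241421688590303745), (8618020164033625053, 9241399664670933761), (7412184987684892313, 9241414048333239809), (13853125299270845185, 9241444778686813953), (9857422932294011342, 9241404272716290561), (16181461185727660096, 9241395322343201537), (866973958359162171, 9241436175734480385), (9422611692285182531, 9241435982460100353), (18422746586316598937, 9241436089836971521), (2319424726629549064, 9241444847607621377), (16975899064350743867, 9241436073259248129), (2027798580997176285, 9241435948705655553), (6626649368531922906, 9241421744980700673), (16181698034171603415, 9241421882419654401), (3044216872816704159, 9241391078579385857), (9314336936057635329, 9241427208512485121), (9314500112743984793, 9241414100275509761), (6820657010598312607, 9241444744531294977), (1744054211214110361, 9241436038901349889), (13751644678937804182, 9241444761509838593)],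
   [(9241421688590303745, 9241421688590303745), (17989378264273799118, 9241421825962410497), (7626707710796511022, 9241404233776628225), (9241529653906481232, 9241399647490015745), (4045393621336221405, 9241390868041040385), (7626668920190725014, 9241395283536904705)],
   [(9241421688590303745, 9241421688590303745), (1166643959494282248, 9241404165190844929)],
   [(9241421688590303745, 9241421688590303745), (4647750206044504579, 9241404165123736065), (9493900430553121026, 9241421826029257217)],
   [(9241421688590303745, 9241421688590303745), (14069592767680742145, 9241439280776348161)]]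

theorem iso_mem : (isoL.all fun l => l.all fun t =>
    (U42Act.memOK t.1 || (U42Act.memOK (comp t.1 sigC) && Nat.beq (comp (comp t.1 sigC) sigC) t.1)) &&
      Nat.beq (psi t.1) t.2) = true := by decide +kernel

theorem iso_cover : ((List.range 6).all fun k => (List.range 64).all fun t =>
    !Nat.beq (qW 0 t) 1 ||
      ((List.range k).any fun i => !Nat.beq (bq (qW 0) (1 <<< i) t) (bq (qW 0) (1 <<< i) (1 <<< k))) ||
      (isoL.getD k []).any fun e => Nat.beq (app e.2 (1 <<< k)) t &&
        (List.range k).all fun i => Nat.beq (app e.2 (1 <<< i)) (1 <<< i)) = true := by decide +kernel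

theorem basis_q : ∀ k < 6, qW 0 (1 <<< k) = 1 ∧ 1 <<< k < 64 := by decide +kernel

theorem isoL_inX {k : ℕ} {t : ℕ × ℕ} (hk : k < isoL.length) (h : t ∈ isoL.getD k []) : InX t.1 ∧ psi t.1 = t.2 := by
  have hm : isoL.getD k [] ∈ isoL := by
    rw [List.getD_eq_getElem?_getD, List.getElem?_eq_getElem hk]; exact List.getElem_mem _
  have c := List.all_eq_true.mp (List.all_eq_true.mp iso_mem _ hm) t h
  rw [Bool.and_eq_true, Bool.or_eq_true, Bool.and_eq_true, Nat.beq_eq, Nat.beq_eq] at c
  refine ⟨?_, c.2⟩
  rcases c.1 with m | ⟨m, e⟩
  · exact Or.inl (memOK_inU m)
  · exact Or.inr ⟨comp t.1 sigC, memOK_inU m, e.symm⟩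

/-- An isometry of the six-space is the action of an element. -/
theorem isom_psi (f : ℕ → ℕ) (hlt : ∀ v < 64, f v < 64)
    (hadd : ∀ u < 64, ∀ v < 64, f (u ^^^ v) = f u ^^^ f v) (hq : ∀ v < 64, qW 0 (f v) = qW 0 v) :
    ∃ g : XG, ∀ v < 64, pw g v = f v := by
  have step : ∀ k ≤ 6, ∃ g : XG, ∀ i < k, pw g (1 <<< i) = f (1 <<< i) := by
    intro k
    induction k with
    | zero => exact fun _ => ⟨1, fun i hi => absurd hi (Nat.not_lt_zero i)⟩
    | succ k ih =>
      intro hk
      obtain ⟨g, hg⟩ := ih (by omega)
      obtain ⟨bk, lk⟩ := basis_q k (by omega)
      set t := pw g⁻¹ (f (1 <<< k)) with ht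
      have lf := hlt _ lk
      have lt' : t < 64 := pw_six _ lf
      have qt : qW 0 t = 1 := by rw [ht, pw_qW _ (by norm_num) (by omega), hq _ lk, bk]
      have bt : ∀ i < k, bq (qW 0) (1 <<< i) t = bq (qW 0) (1 <<< i) (1 <<< k) := by
        intro i hi
        obtain ⟨bi, li⟩ := basis_q i (by omega)
        have li' := hlt _ li
        have e : 1 <<< i = pw g⁻¹ (f (1 <<< i)) := by rw [← hg i hi, pw_inv_self g (by omega)]
        conv_lhs => rw [e, ht, pw_bq g⁻¹ (by norm_num) (by omega) (by omega)]
        simp only [bq]
        rw [← hadd _ li _ lk, hq _ (Nat.xor_lt_two_pow (n := 6) li lk), hq _ li, hq _ lk]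
      have c := List.all_eq_true.mp (List.all_eq_true.mp iso_cover k (List.mem_range.mpr (by omega))) t
        (List.mem_range.mpr lt')
      simp only [qt, Nat.beq_refl, Bool.not_true, Bool.false_or, Bool.or_eq_true, List.any_eq_true, List.mem_range,
        Bool.and_eq_true, List.all_eq_true, Bool.not_eq_true', ← Bool.not_eq_true, Nat.beq_eq] at c
      rcases c with ⟨i, hi, hne⟩ | ⟨e, he, e1, e2⟩
      · exact absurd (bt i hi) hne
      · obtain ⟨hx, hp⟩ := isoL_inX (k := k) (show k < 6 by omega) he
        refine ⟨g * ⟨e.1, hx⟩, fun i hi => ?_⟩
        have pe : ∀ v, pw ⟨e.1, hx⟩ v = app e.2 v := fun v => by rw [pw, hp]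
        rw [pw_mul, pe]
        rcases Nat.lt_succ_iff_lt_or_eq.mp hi with h | h
        · rw [e2 i h, hg i h]
        · rw [h, e1, ht, pw_self_inv g (by omega)]
  obtain ⟨g, hg⟩ := step 6 le_rfl
  refine ⟨g, fun v hv => ?_⟩
  have := lin_ext (f := fun v => pw g (v % 64)) (f' := fun v => f (v % 64))
    (fun a b => by
      have ex : (a ^^^ b) % 64 = (a % 64) ^^^ (b % 64) := Nat.xor_mod_two_pow (n := 6)
      simp only [ex, pw_add])
    (fun a b => by
      have ex : (a ^^^ b) % 64 = (a % 64) ^^^ (b % 64) := Nat.xor_mod_two_pow (n := 6)
      simp only [ex]; exact hadd _ (Nat.mod_lt _ (by norm_num)) _ (Nat.mod_lt _ (by norm_num)))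
    (fun i hi => by
      by_cases h6 : i < 6
      · simp only [Nat.mod_eq_of_lt (basis_q i h6).2]; exact hg i h6
      · have h0 : (1 <<< i) % 64 = 0 := by interval_cases i <;> rfl
        have hz := hadd 0 (by norm_num) 0 (by norm_num)
        simp only [Nat.xor_self] at hz
        simp only [h0, pw_zero, hz]) v (by omega)
  simpa [Nat.mod_eq_of_lt hv] using this

end CfsgLib.SixTwoType
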